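import Cfsg.Agent.ZStar.Final
import Cfsg.Agent.InvChar.QuaternionFactor
import Mathlib.GroupTheory.SpecificGroups.KleinFour
import Mathlib.GroupTheory.SpecificGroups.Quaternion

/-!
# Groups of 2-rank one
-/

set_option autoImplicit false
set_option linter.style.haveILetI false
set_option linter.unusedSectionVars false

namespace CfsgLib.ZStar

open Cfsg

universe u

variable {G : Type u} [Group G] [Finite G]

/-- If commuting involutions are equal then every involution is isolated. -/
theorem isolated_of_commuting (h : ∀ v w : G, orderOf v = 2 → orderOf w = 2 → Commute v w → v = w)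
    {a : G} (ha : orderOf a = 2) : IsIsolatedInvolution a :=
  ⟨ha, fun g hg => (h a _ ha ((Invol.orderOf_conj_eq g a).trans ha) hg).symm⟩

/-- Without a Klein four subgroup commuting involutions are equal. -/
theorem commuting_eq_of_no_klein (hrank : ∀ E : Subgroup G, ¬ IsKleinFour E) {v w : G}
    (hv : orderOf v = 2) (hw : orderOf w = 2) (hc : Commute v w) : v = w := by
  classical
  by_contra hne
  have hv2 := Invol.mul_self_eq_one hv
  have hw2 := Invol.mul_self_eq_one hw
  have hwv : w * v = v * w := hc.eq.symm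
  have e1 : v * (v * w) = w := by rw [← mul_assoc, hv2, one_mul]
  have e2 : w * (v * w) = v := by rw [← hwv, ← mul_assoc, hw2, one_mul]
  have e3 : v * w * v = w := by rw [mul_assoc, hwv, e1]
  have e4 : v * w * w = v := by rw [mul_assoc, hw2, mul_one]
  have e5 : v * w * (v * w) = 1 := by rw [mul_assoc, e2, hv2]
  let E : Subgroup G :=
    { carrier := {1, v, w, v * w}
      one_mem' := by simp
      mul_mem' := fun {a b} ha hb => by
        simp only [Set.mem_insert_iff, Set.mem_singleton_iff] at ha hb ⊢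
        rcases ha with rfl | rfl | rfl | rfl <;> rcases hb with rfl | rfl | rfl | rfl <;>
          simp [hv2, hw2, hwv, e1, e2, e3, e4, e5]
      inv_mem' := fun {a} ha => by
        simp only [Set.mem_insert_iff, Set.mem_singleton_iff] at ha ⊢
        rcases ha with rfl | rfl | rfl | rfl <;>
          simp [inv_eq_of_mul_eq_one_right hv2, inv_eq_of_mul_eq_one_right hw2,
            inv_eq_of_mul_eq_one_right e5] }
  have hcard : Nat.card E = 4 := by
    show Set.ncard ({1, v, w, v * w} : Set G) = 4
    rw [Set.ncard_eq_toFinset_card']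
    simp only [Set.toFinset_insert, Set.toFinset_singleton]
    rw [Finset.card_insert_of_notMem, Finset.card_insert_of_notMem, Finset.card_pair]
    · exact fun h => Invol.ne_one hv (mul_eq_right.1 h.symm)
    · simp only [Finset.mem_insert, Finset.mem_singleton, not_or]
      exact ⟨hne, fun h => Invol.ne_one hw (mul_eq_left.1 h.symm)⟩
    · simp only [Finset.mem_insert, Finset.mem_singleton, not_or]
      exact ⟨(Invol.ne_one hv).symm, (Invol.ne_one hw).symm,
        fun h => hne ((eq_inv_of_mul_eq_one_left h.symm).trans (Invol.inv_eq_self hw))⟩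
  refine hrank E ⟨hcard, ?_⟩
  haveI : Nontrivial E := ⟨⟨⟨v, by simp [E]⟩, 1, fun h => Invol.ne_one hv (congrArg Subtype.val h)⟩⟩
  refine (Monoid.exponent_eq_prime_iff Nat.prime_two).2 fun g hg => ?_
  refine orderOf_eq_prime (Subtype.ext ?_) hg
  obtain ⟨g, hgE⟩ := g
  rw [SubmonoidClass.coe_pow, OneMemClass.coe_one, sq]
  have hgE' : g = 1 ∨ g = v ∨ g = w ∨ g = v * w := by simpa [E] using hgE
  rcases hgE' with rfl | rfl | rfl | rfl <;> simp [hv2, hw2, e5]

theorem exists_central_modulo (heven : Even (Nat.card G))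
    (hrank : ∀ E : Subgroup G, ¬ IsKleinFour E) :
    ∃ z : G, orderOf z = 2 ∧ ∃ N : Subgroup G, N.Normal ∧ Odd (Nat.card N) ∧
      ∀ g : G, z * g * z⁻¹ * g⁻¹ ∈ N := by
  haveI : Fact (Nat.Prime 2) := ⟨Nat.prime_two⟩
  obtain ⟨z, hz⟩ := exists_prime_orderOf_dvd_card' 2 (even_iff_two_dvd.1 heven)
  exact ⟨z, hz, zstar (isolated_of_commuting
    (fun _ _ h1 h2 h3 => commuting_eq_of_no_klein hrank h1 h2 h3) hz)⟩

/-- A unique involution in a Sylow 2-subgroup. -/
theorem commuting_eq_of_sylow (S : Sylow 2 G)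
    (hS : ∀ v ∈ S, ∀ w ∈ S, orderOf v = 2 → orderOf w = 2 → v = w) {v w : G}
    (hv : orderOf v = 2) (hw : orderOf w = 2) (hc : Commute v w) : v = w := by
  haveI : Fact (Nat.Prime 2) := ⟨Nat.prime_two⟩
  have hv' : IsPGroup 2 (Subgroup.zpowers v) :=
    IsPGroup.of_card (n := 1) (by rw [Nat.card_zpowers, hv, pow_one])
  have hw' : IsPGroup 2 (Subgroup.zpowers w) :=
    IsPGroup.of_card (n := 1) (by rw [Nat.card_zpowers, hw, pow_one])
  have hn : Subgroup.zpowers v ≤ Subgroup.normalizer ((Subgroup.zpowers w : Subgroup G) : Set G) := by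
    refine le_trans ?_ (Subgroup.centralizer_le_normalizer _)
    rw [Subgroup.zpowers_le, Subgroup.mem_centralizer_iff]
    intro t ht
    obtain ⟨i, rfl⟩ := Subgroup.mem_zpowers_iff.1 ht
    exact (hc.symm.zpow_left i).eq
  obtain ⟨T, hT⟩ := (hv'.to_sup_of_normal_right' hw' hn).exists_le_sylow
  obtain ⟨t, ht⟩ := MulAction.exists_smul_eq G T S
  have hmem : ∀ u ∈ T, t * u * t⁻¹ ∈ S := fun u hu => by rw [← ht]; exact ⟨u, hu, rfl⟩
  have h := hS _ (hmem v (hT (Subgroup.mem_sup_left (Subgroup.mem_zpowers v)))) _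
    (hmem w (hT (Subgroup.mem_sup_right (Subgroup.mem_zpowers w))))
    ((Invol.orderOf_conj_eq t v).trans hv) ((Invol.orderOf_conj_eq t w).trans hw)
  exact mul_left_cancel (mul_right_cancel h)

theorem quaternion_center_sq {m : ℕ} (hm : 1 ≤ m) {q : QuaternionGroup (2 ^ m)}
    (hq : ∀ r, r * q = q * r) : q * q = 1 := by
  cases q with
  | a i =>
    have h := hq (QuaternionGroup.xa 0)
    rw [QuaternionGroup.xa_mul_a, QuaternionGroup.a_mul_xa, QuaternionGroup.xa.injEq] at h
    rw [QuaternionGroup.a_mul_a, QuaternionGroup.one_def]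
    congr 1
    linear_combination h
  | xa i =>
    exfalso
    have h := hq (QuaternionGroup.a 1)
    rw [QuaternionGroup.a_mul_xa, QuaternionGroup.xa_mul_a, QuaternionGroup.xa.injEq] at h
    have h2 : ((2 : ℕ) : ZMod (2 * 2 ^ m)) = 0 := by push_cast; linear_combination -h
    rw [ZMod.natCast_eq_zero_iff] at h2
    have h3 := Nat.le_of_dvd two_pos h2
    have := Nat.pow_le_pow_right two_pos hm
    omega

theorem center_card_two (S : Sylow 2 G) (n : ℕ)
    (e : (S : Subgroup G) ≃* QuaternionGroup (2 ^ (n + 1)))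
    (hO : ∀ N : Subgroup G, N.Normal → Odd (Nat.card N) → N = ⊥) :
    Nat.card (Subgroup.center G) = 2 := by
  haveI : Fact (Nat.Prime 2) := ⟨Nat.prime_two⟩
  obtain ⟨-, zq, hzq, huq, -, -⟩ := InvChar.quaternion_facts (n + 1) (by omega)
  set z : G := ((e.symm zq : (S : Subgroup G)) : G)
  have hz : orderOf z = 2 := by
    show orderOf ((e.symm zq : (S : Subgroup G)) : G) = 2
    rw [Subgroup.orderOf_coe, e.symm.orderOf_eq, hzq]
  have hval : ∀ v ∈ S, orderOf v = 2 → v = z := by
    intro v hv hv2
    have h := huq (e ⟨v, hv⟩) (by rw [e.orderOf_eq, ← Subgroup.orderOf_coe]; exact hv2)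
    exact congrArg Subtype.val (e.injective (h.trans (e.apply_symm_apply zq).symm))
  have hS : ∀ v ∈ S, ∀ w ∈ S, orderOf v = 2 → orderOf w = 2 → v = w :=
    fun v hv w hw h1 h2 => (hval v hv h1).trans (hval w hw h2).symm
  have hiso := isolated_of_commuting (fun _ _ h1 h2 h3 => commuting_eq_of_sylow S hS h1 h2 h3) hz
  obtain ⟨N, hN, hNodd, hNc⟩ := zstar hiso
  have hzc : z ∈ Subgroup.center G := by
    rw [Subgroup.mem_center_iff]
    intro g
    have h := hNc g
    rw [hO N hN hNodd, Subgroup.mem_bot, mul_inv_eq_one, mul_inv_eq_iff_eq_mul] at h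
    exact h.symm
  have hcentre : ∀ c ∈ Subgroup.center G, c = 1 ∨ c = z := by
    intro c hc
    obtain ⟨k, hk⟩ : ∃ k, orderOf c = 2 ^ k := by
      refine ⟨(orderOf c).factorization 2, ?_⟩
      set m := orderOf c / 2 ^ (orderOf c).factorization 2
      have hm : ¬ 2 ∣ m := Nat.not_dvd_ordCompl Nat.prime_two (orderOf_pos c).ne'
      have hprod := Nat.ordProj_mul_ordCompl_eq_self (orderOf c) 2
      have hn : (Subgroup.zpowers (c ^ 2 ^ (orderOf c).factorization 2)).Normal := by
        refine ⟨fun x hx g => ?_⟩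
        rw [Subgroup.mem_center_iff.1 ((Subgroup.zpowers_le.2 (pow_mem hc _)) hx) g,
          mul_inv_cancel_right]
        exact hx
      have ho : orderOf (c ^ 2 ^ (orderOf c).factorization 2) = m :=
        (orderOf_pow' c (pow_ne_zero _ two_ne_zero)).trans
          (by rw [Nat.gcd_eq_right (Nat.ordProj_dvd _ _)])
      have h1 := hO _ hn (by
        rw [Nat.card_zpowers, ho]
        exact Nat.not_even_iff_odd.1 fun h => hm (even_iff_two_dvd.1 h))
      have h2 := congrArg (fun K : Subgroup G => Nat.card K) h1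
      simp only [Nat.card_zpowers, Subgroup.card_bot, ho] at h2
      conv_lhs => rw [← hprod, show orderOf c / 2 ^ (orderOf c).factorization 2 = 1 from h2, mul_one]
    have hc2 : IsPGroup 2 (Subgroup.zpowers c) := IsPGroup.of_card (n := k) (by rw [Nat.card_zpowers, hk])
    obtain ⟨T, hT⟩ := hc2.exists_le_sylow
    obtain ⟨t, ht⟩ := MulAction.exists_smul_eq G T S
    have hcS : c ∈ S := by
      rw [← ht]
      refine ⟨c, hT (Subgroup.mem_zpowers c), ?_⟩
      show t * c * t⁻¹ = c
      rw [Subgroup.mem_center_iff.1 hc t, mul_inv_cancel_right]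
    have hsq := quaternion_center_sq (by omega : 1 ≤ n + 1) (q := e ⟨c, hcS⟩) fun r => by
      obtain ⟨r, rfl⟩ := e.surjective r
      rw [← map_mul, ← map_mul]
      exact congrArg e (Subtype.ext (Subgroup.mem_center_iff.1 hc (r : G)))
    rw [← map_mul, ← e.map_one] at hsq
    have hcc : c * c = 1 := congrArg Subtype.val (e.injective hsq)
    by_cases h1 : c = 1
    · exact Or.inl h1
    · exact Or.inr (hval c hcS (Invol.orderOf_eq_two hcc h1))
  have heq : Subgroup.center G = Subgroup.zpowers z := by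
    refine le_antisymm (fun c hc => ?_) (Subgroup.zpowers_le.2 hzc)
    rcases hcentre c hc with rfl | rfl
    · exact one_mem _
    · exact Subgroup.mem_zpowers _
  rw [heq, Nat.card_zpowers, hz]

end CfsgLib.ZStar
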