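import Mathlib.Data.Complex.Basic
import Mathlib.Algebra.BigOperators.Fin
import Mathlib.Algebra.Order.BigOperators.Group.Finset
import Mathlib.Algebra.Order.Ring.Abs
import Mathlib.Tactic.Linarith
import Mathlib.Tactic.NormNum
import Mathlib.Tactic.Ring
import Mathlib.Tactic.LinearCombination
import Mathlib.Tactic.FieldSimp
import Mathlib.Tactic.FinCases

/-!
# The combinatorics of four integer vectors for the quaternion group of order eight

`m` stands for the coefficients of the generalized character supported at the elements of order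
divisible by four, `k i` for those of the three supported at the section of the involution.
-/

set_option autoImplicit false
set_option linter.unusedSectionVars false

namespace CfsgLib.ZStar.Combi

open Finset

variable {ι : Type*} [Fintype ι] [DecidableEq ι]

theorem eq_zero_off {v : ι → ℤ} {N : ℤ} (h : ∑ i, v i * v i = N) (s : Finset ι)
    (hs : N ≤ ∑ i ∈ s, v i * v i) {i : ι} (hi : i ∉ s) : v i = 0 := by
  have h1 : v i * v i + ∑ j ∈ s, v j * v j ≤ N := by
    rw [← h, ← sum_insert (f := fun j => v j * v j) hi]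
    exact sum_le_sum_of_subset_of_nonneg (subset_univ _) fun j _ _ => mul_self_nonneg _
  exact mul_self_eq_zero.1 (le_antisymm (by linarith) (mul_self_nonneg _))

theorem sum_supported {v : ι → ℤ} (s : Finset ι) (h : ∀ i ∉ s, v i = 0) (F : ι → ℂ) :
    ∑ i, (v i : ℂ) * F i = ∑ i ∈ s, (v i : ℂ) * F i :=
  (sum_subset (subset_univ s) fun i _ hi => by rw [h i hi, Int.cast_zero, zero_mul]).symm

theorem abs_le_one {m : ι → ℤ} {o : ι} (ho : m o = 1) (h : ∑ i, m i * m i = 4) (i : ι) :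
    m i = -1 ∨ m i = 0 ∨ m i = 1 := by
  by_cases hi : i = o
  · exact Or.inr (Or.inr (hi ▸ ho))
  · have h1 : m i * m i + m o * m o ≤ 4 := by
      rw [← h, ← sum_pair hi (f := fun j => m j * m j)]
      exact sum_le_sum_of_subset_of_nonneg (subset_univ _) fun j _ _ => mul_self_nonneg _
    rw [ho] at h1
    have : -1 ≤ m i ∧ m i ≤ 1 := ⟨by nlinarith, by nlinarith⟩
    omega

variable (Bset : ι → Prop) (A B : ι → ℂ) (o : ι) (m : ι → ℤ) (k : Fin 3 → ι → ℤ)

/-- The hypotheses. -/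
structure Hyp : Prop where
  mo : m o = 1
  ko : ∀ i, k i o = 1
  mm : ∑ χ, m χ * m χ = 4
  kk : ∀ i, ∑ χ, k i χ * k i χ = 4
  kk' : ∀ i j, i ≠ j → ∑ χ, k i χ * k j χ = 2
  mkz : ∀ i, ∑ χ, m χ * k i χ = 0
  Ao : A o = 1
  Bo : B o = 1
  A0 : ∀ χ, A χ ≠ 0
  mA : ∑ χ, (m χ : ℂ) * A χ = 0
  mB : ∑ χ, (m χ : ℂ) * B χ = 0
  mW : ∑ χ, (m χ : ℂ) * (B χ ^ 2 / A χ) = 0
  kA : ∀ i, ∑ χ, (k i χ : ℂ) * A χ = 0
  kW : ∀ i, ∑ χ, (k i χ : ℂ) * (B χ ^ 2 / A χ) = 0
  msupp : ∀ χ, m χ ≠ 0 → Bset χ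
  ksupp : ∀ i χ, k i χ ≠ 0 → Bset χ
  van : ∀ u : ι → ℤ, (∀ χ, u χ ≠ 0 → Bset χ) → (∀ i, ∑ χ, u χ * k i χ = 0) →
    ∑ χ, (u χ : ℂ) * B χ = 0
  par0 : ∀ χ, Bset χ → m χ = 0 → B χ ≠ 1 ∧ B χ ≠ -1
  par1 : ∀ χ, m χ ≠ 0 → B χ ≠ 0
  lin : ∀ χ, χ ≠ o → m χ ≠ 0 → (m χ : ℂ) * A χ ≠ -1

variable {Bset A B o m k}

theorem Hyp.no_three (H : Hyp Bset A B o m k) (i : Fin 3) {r : ι} (hr : r ≠ o)
    (hrv : m r * k i r = 1) : False := by
  have hm := abs_le_one H.mo H.mm r
  have hk := abs_le_one (H.ko i) (H.kk i) r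
  have hv : ∑ χ, (m χ + k i χ) * (m χ + k i χ) = 8 := by
    have e : ∀ χ, (m χ + k i χ) * (m χ + k i χ) =
        m χ * m χ + k i χ * k i χ + 2 * (m χ * k i χ) := fun χ => by ring
    rw [sum_congr rfl fun χ _ => e χ, sum_add_distrib, sum_add_distrib, ← mul_sum, H.mm, H.kk,
      H.mkz]
    norm_num
  have hmr : m r ≠ 0 := fun h => by rw [h, zero_mul] at hrv; exact zero_ne_one hrv
  have hkr : k i r = m r := by
    rcases hm with h | h | h <;> rcases hk with h' | h' | h' <;> rw [h, h'] at hrv ⊢ <;>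
      norm_num at hrv
  have hoff : ∀ χ ∉ ({o, r} : Finset ι), m χ + k i χ = 0 := fun χ hχ =>
    eq_zero_off (v := fun χ => m χ + k i χ) hv {o, r} (by
      rw [sum_pair hr.symm, H.mo, H.ko, hkr]
      rcases hm with h | h | h
      · rw [h]; norm_num
      · exact absurd h hmr
      · rw [h]; norm_num) hχ
  have h := sum_supported (v := fun χ => m χ + k i χ) {o, r} hoff A
  rw [sum_pair hr.symm, H.mo, H.ko, hkr, H.Ao] at h
  have h0 : ∑ χ, ((m χ + k i χ : ℤ) : ℂ) * A χ = 0 := by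
    rw [sum_congr rfl fun χ _ => by rw [Int.cast_add, add_mul], sum_add_distrib, H.mA, H.kA,
      add_zero]
  rw [h0] at h
  push_cast at h
  exact H.lin r hr hmr (by linear_combination -(1 / 2 : ℂ) * h)

theorem Hyp.pair (H : Hyp Bset A B o m k) (ξ : Fin 3 → ι) (hξi : Function.Injective ξ)
    (hξo : ∀ i, ξ i ≠ o) (hsupp : ∀ χ, m χ ≠ 0 → χ ≠ o → ∃ i, χ = ξ i)
    (hξm : ∀ i, m (ξ i) ≠ 0) (hdiag : ∀ i, k i (ξ i) = -m (ξ i))
    (hoff : ∀ i j, i ≠ j → k i (ξ j) = 0) {i j l : Fin 3} (hij : i ≠ j) (hil : i ≠ l)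
    (hjl : j ≠ l) :
    ((m (ξ i) : ℂ) * B (ξ i)) * A (ξ j) * (m (ξ j) : ℂ) =
      ((m (ξ j) : ℂ) * B (ξ j)) * A (ξ i) * (m (ξ i) : ℂ) := by
  have hm := abs_le_one H.mo H.mm
  have hk := fun t => abs_le_one (H.ko t) (H.kk t)
  have hsq : ∀ t, m (ξ t) * m (ξ t) = 1 := fun t => by
    rcases hm (ξ t) with h | h | h
    · rw [h]; norm_num
    · exact absurd h (hξm t)
    · rw [h]; norm_num
  -- a common constituent
  obtain ⟨s, hso, hs⟩ : ∃ s, s ≠ o ∧ 0 < k i s * k j s := by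
    by_contra! hno
    have h := H.kk' i j hij
    rw [← add_sum_erase univ _ (mem_univ o), H.ko, H.ko] at h
    have := sum_nonpos fun s (hs : s ∈ univ.erase o) => hno s (mem_erase.1 hs).1
    omega
  have hkj : k j s = k i s ∧ (k i s = 1 ∨ k i s = -1) := by
    rcases hk i s with h | h | h <;> rcases hk j s with h' | h' | h' <;>
      simp [h, h'] at hs ⊢
  set σ := k i s with hσdef
  have hσ : σ * σ = 1 := by rcases hkj.2 with h | h <;> rw [h] <;> norm_num
  have hsξ : ∀ t, s ≠ ξ t := by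
    intro t h
    by_cases hti : t = i
    · rw [h, hoff j t (hti ▸ hij.symm)] at hs; simp at hs
    · rw [hσdef, h, hoff i t (Ne.symm hti)] at hσ; simp at hσ
  have hsm : m s = 0 := by
    by_contra h
    obtain ⟨t, ht⟩ := hsupp s h hso
    exact hsξ t ht
  have hsB : Bset s := H.ksupp i s (fun h => by rw [hσdef, h] at hσ; norm_num at hσ)
  set v : ι → ℤ := fun χ => k i χ + k j χ - k l χ - m χ with hvdef
  have hvv : ∑ χ, v χ * v χ = 12 := by
    have e : ∀ χ, v χ * v χ = k i χ * k i χ + k j χ * k j χ + k l χ * k l χ + m χ * m χ +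
        2 * (k i χ * k j χ) - 2 * (k i χ * k l χ) - 2 * (k j χ * k l χ) - 2 * (m χ * k i χ) -
        2 * (m χ * k j χ) + 2 * (m χ * k l χ) := fun χ => by rw [hvdef]; ring
    rw [sum_congr rfl fun χ _ => e χ]
    simp only [sum_add_distrib, sum_sub_distrib, ← mul_sum, H.kk, H.mm, H.mkz, H.kk' i j hij,
      H.kk' i l hil, H.kk' j l hjl]
    norm_num
  have hvi : v (ξ i) = -2 * m (ξ i) := by
    simp only [hvdef]; rw [hdiag, hoff j i hij.symm, hoff l i hil.symm]; ring
  have hvj : v (ξ j) = -2 * m (ξ j) := by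
    simp only [hvdef]; rw [hdiag, hoff i j hij, hoff l j hjl.symm]; ring
  have hvs : v s = 2 * σ - k l s := by
    simp only [hvdef]; rw [hkj.1, hsm, ← hσdef]; ring
  have hd : ξ i ≠ ξ j := fun h => hij (hξi h)
  have hsum3 : ∑ χ ∈ ({s, ξ i, ξ j} : Finset ι), v χ * v χ = v s * v s + 8 := by
    rw [sum_insert (by simp [hsξ i, hsξ j]), sum_pair hd, hvi, hvj]
    linear_combination 4 * hsq i + 4 * hsq j
  have hl3 : k l s = 0 ∨ k l s = σ ∨ k l s = -σ := by
    rcases hk l s with h | h | h <;> rcases hkj.2 with h' | h' <;> omega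
  rcases hl3 with hl | hl | hl
  · -- the third vector avoids `s`
    have hoff3 : ∀ χ ∉ ({s, ξ i, ξ j} : Finset ι), v χ = 0 := fun χ hχ =>
     eq_zero_off hvv _ (by rw [hsum3, hvs, hl]; linarith) hχ
    have hgen : ∀ F : ι → ℂ, (∑ χ, (m χ : ℂ) * F χ = 0) → (∀ t, ∑ χ, (k t χ : ℂ) * F χ = 0) →
       (σ : ℂ) * F s = (m (ξ i) : ℂ) * F (ξ i) + (m (ξ j) : ℂ) * F (ξ j) := by
     intro F hF hkF
     have h := sum_supported {s, ξ i, ξ j} hoff3 F
     rw [sum_insert (by simp [hsξ i, hsξ j]), sum_pair hd, hvi, hvj, hvs, hl] at h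
     have h0 : ∑ χ, (v χ : ℂ) * F χ = 0 := by
       simp only [hvdef, Int.cast_add, Int.cast_sub, add_mul, sub_mul, sum_add_distrib,
         sum_sub_distrib, hkF, hF]
       norm_num
     rw [h0] at h
     push_cast at h
     linear_combination -(1 / 2 : ℂ) * h
    have hA := hgen A H.mA H.kA
    have hW := hgen _ H.mW H.kW
    let u : ι → ℤ := fun χ => (if χ = s then σ else 0) + ((if χ = ξ i then m (ξ i) else 0) +
     (if χ = ξ j then m (ξ j) else 0))
    have hu0 : ∀ t, ∑ χ, u χ * k t χ = 0 := fun t => by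
     simp only [u, add_mul, sum_add_distrib, ite_mul, zero_mul, sum_ite_eq', mem_univ, if_true]
     have ht : t = i ∨ t = j ∨ t = l := by omega
     rcases ht with rfl | rfl | rfl
     · rw [← hσdef, hσ, hdiag, hoff _ _ hij]; linear_combination -(hsq t)
     · rw [hkj.1, hσ, hdiag, hoff _ _ hij.symm]; linear_combination -(hsq t)
     · rw [hl, hoff _ _ hil.symm, hoff _ _ hjl.symm]; ring
    have h1 := H.van u (fun χ hχ => by
     by_cases h1 : χ = s
     · exact h1 ▸ hsB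
     · refine H.msupp χ fun h0 => hχ ?_
       have : ∀ t, χ ≠ ξ t := fun t e => hξm t (e ▸ h0)
       simp [u, h1, this i, this j]) hu0
    simp only [u, Int.cast_add, add_mul, sum_add_distrib, Int.cast_ite, Int.cast_zero,
     ite_mul, zero_mul, sum_ite_eq', mem_univ, if_true] at h1
    have hsi : (m (ξ i) : ℂ) * (m (ξ i) : ℂ) = 1 := by exact_mod_cast hsq i
    have hsj : (m (ξ j) : ℂ) * (m (ξ j) : ℂ) = 1 := by exact_mod_cast hsq j
    have hss : (σ : ℂ) * (σ : ℂ) = 1 := by exact_mod_cast hσ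
    set mi := (m (ξ i) : ℂ)
    set mj := (m (ξ j) : ℂ)
    set ms := (σ : ℂ)
    have na := H.A0 s
    have ni := H.A0 (ξ i)
    have nj := H.A0 (ξ j)
    field_simp at hW
    set P := A s
    set Q := B s
    set Ai := A (ξ i)
    set Aj := A (ξ j)
    set Bi := B (ξ i)
    set Bj := B (ξ j)
    have hQ : ms * Q = -(mi * Bi + mj * Bj) := by linear_combination h1
    have hQ2 : Q ^ 2 = (mi * Bi + mj * Bj) ^ 2 := by
     linear_combination (ms * Q - (mi * Bi + mj * Bj)) * hQ - Q ^ 2 * hss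
    have hkey : (mi * Bi * Aj * mj - mj * Bj * Ai * mi) ^ 2 = 0 := by
     have hP : P = ms * (mi * Ai + mj * Aj) := by linear_combination ms * hA - P * hss
     rw [hP, hQ2] at hW
     have hW' : (mi * Bi + mj * Bj) ^ 2 * Ai * Aj =
         (mi * Bi ^ 2 * Aj + mj * Bj ^ 2 * Ai) * (mi * Ai + mj * Aj) := by
       have hms : ms ≠ 0 := left_ne_zero_of_mul (hss.symm ▸ one_ne_zero)
       apply mul_left_cancel₀ hms
       linear_combination hW
     linear_combination (-mi * mj) * hW'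
    exact sub_eq_zero.1 (pow_eq_zero_iff two_ne_zero |>.1 hkey)
  · -- the third vector contains `s` with the same sign
    exfalso
    have hls : k l s = σ := hl
    let u : ι → ℤ := fun χ => (if χ = s then σ else 0) + ((if χ = ξ i then m (ξ i) else 0) +
     ((if χ = ξ j then m (ξ j) else 0) + (if χ = ξ l then m (ξ l) else 0)))
    have hu : ∀ F : ι → ℂ, ∑ χ, (u χ : ℂ) * F χ = (σ : ℂ) * F s + ((m (ξ i) : ℂ) * F (ξ i) +
       ((m (ξ j) : ℂ) * F (ξ j) + (m (ξ l) : ℂ) * F (ξ l))) := fun F => by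
     simp only [u, Int.cast_add, add_mul, sum_add_distrib, Int.cast_ite, Int.cast_zero,
       ite_mul, zero_mul, sum_ite_eq', mem_univ, if_true]
    have hu0 : ∀ t, ∑ χ, u χ * k t χ = 0 := fun t => by
     simp only [u, add_mul, sum_add_distrib, ite_mul, zero_mul, sum_ite_eq', mem_univ, if_true]
     have ht : t = i ∨ t = j ∨ t = l := by omega
     rcases ht with rfl | rfl | rfl
     · rw [← hσdef, hσ, hdiag, hoff _ _ hij, hoff _ _ hil]; linear_combination -(hsq t)
     · rw [hkj.1, hσ, hdiag, hoff _ _ hij.symm, hoff _ _ hjl]; linear_combination -(hsq t)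
     · rw [hls, hσ, hdiag, hoff _ _ hil.symm, hoff _ _ hjl.symm]; linear_combination -(hsq t)
    have h1 := H.van u (fun χ hχ => by
     by_cases h1 : χ = s
     · exact h1 ▸ hsB
     · refine H.msupp χ fun h0 => hχ ?_
       have : ∀ t, χ ≠ ξ t := fun t e => hξm t (e ▸ h0)
       simp [u, h1, this i, this j, this l]) hu0
    rw [hu] at h1
    have h2 := H.mB
    rw [sum_supported {o, ξ i, ξ j, ξ l} (fun χ hχ => by
       by_contra h0
       simp only [mem_insert, mem_singleton, not_or] at hχ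
       obtain ⟨t, ht⟩ := hsupp χ h0 hχ.1
       have ht' : t = i ∨ t = j ∨ t = l := by omega
       rcases ht' with rfl | rfl | rfl
       · exact hχ.2.1 ht
       · exact hχ.2.2.1 ht
       · exact hχ.2.2.2 ht), sum_insert (by simp [(hξo i).symm, (hξo j).symm, (hξo l).symm]),
     sum_insert (by simp [hξi.eq_iff, hij, hil]), sum_pair (fun h => hjl (hξi h)),
     H.mo, H.Bo] at h2
    rcases hkj.2 with hσ2 | hσ2 <;> rw [hσ2] at h1 <;> push_cast at h1 h2
    · exact (H.par0 s hsB hsm).1 (by linear_combination h1 - h2)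
    · exact (H.par0 s hsB hsm).2 (by linear_combination h2 - h1)
  · -- the third vector contains `s` with the opposite sign
    exfalso
    have h9 : v s * v s + 8 ≤ 12 := by
     rw [← hsum3, ← hvv]
     exact sum_le_sum_of_subset_of_nonneg (subset_univ _) fun j _ _ => mul_self_nonneg _
    rw [hvs, hl] at h9
    rcases hkj.2 with hσ1 | hσ1 <;> rw [hσ1] at h9 <;> omega

theorem Hyp.false_of_nontrivial (H : Hyp Bset A B o m k) (nt : ∀ χ, χ ≠ o → B χ ≠ A χ) :
    False := by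
  have hm := abs_le_one H.mo H.mm
  have hk := fun t => abs_le_one (H.ko t) (H.kk t)
  have hcard : ((univ.filter fun χ => m χ ≠ 0).erase o).card = 3 := by
    have h4 : ((univ.filter fun χ => m χ ≠ 0).card : ℤ) = 4 := by
      rw [← H.mm, card_eq_sum_ones, sum_filter, Nat.cast_sum]
      refine sum_congr rfl fun i _ => ?_
      rcases hm i with h | h | h <;> simp [h]
    have h4' : (univ.filter fun χ => m χ ≠ 0).card = 4 := by exact_mod_cast h4
    rw [card_erase_of_mem (by simp [H.mo]), h4']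
  set T := (univ.filter fun χ => m χ ≠ 0).erase o with hT
  have hmemT : ∀ χ, χ ∈ T ↔ χ ≠ o ∧ m χ ≠ 0 := fun χ => by simp [T]
  have hTv : ∀ i, ∑ χ ∈ T, m χ * k i χ = -1 := fun i => by
    have h := H.mkz i
    rw [← sum_subset (subset_univ (insert o T)) (fun χ _ hχ => by
      simp only [mem_insert, hmemT, not_or, not_and, not_not] at hχ
      rw [hχ.2 hχ.1, zero_mul]), sum_insert (by simp [T]), H.mo, H.ko] at h
    linarith
  have hneg : ∀ i, ∀ χ ∈ T, m χ * k i χ = 0 ∨ m χ * k i χ = -1 := fun i χ hχ => by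
    rcases hm χ with h | h | h <;> rcases hk i χ with h' | h' | h' <;> rw [h, h'] <;>
      first
        | (left; norm_num; done)
        | (right; norm_num; done)
        | exact (H.no_three i ((hmemT χ).1 hχ).1 (by rw [h, h']; norm_num)).elim
  have hone : ∀ i, ∃ χ ∈ T, m χ * k i χ = -1 ∧ ∀ ψ ∈ T, ψ ≠ χ → k i ψ = 0 := fun i => by
    obtain ⟨χ, hχ, hv⟩ : ∃ χ ∈ T, m χ * k i χ = -1 := by
      by_contra! hno
      have := hTv i
      rw [sum_eq_zero fun χ hχ => (hneg i χ hχ).resolve_right (hno χ hχ)] at this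
      norm_num at this
    refine ⟨χ, hχ, hv, fun ψ hψ hne => ?_⟩
    have h := hTv i
    rw [← add_sum_erase T _ hχ, hv] at h
    have h0 : ∑ x ∈ T.erase χ, -(m x * k i x) = 0 := by rw [sum_neg_distrib]; linarith
    have := (sum_eq_zero_iff_of_nonneg fun x hx => by
      rcases hneg i x (mem_erase.1 hx).2 with h' | h' <;> rw [h'] <;> norm_num).1 h0 ψ
      (mem_erase.2 ⟨hne, hψ⟩)
    exact (mul_eq_zero.1 (neg_eq_zero.1 this)).resolve_left ((hmemT ψ).1 hψ).2
  choose ξ hξT hξv hξ0 using hone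
  have hsurj : ∀ χ ∈ T, ∃ i, ξ i = χ := fun χ hχ => by
    by_contra! hno
    refine H.par1 χ ((hmemT χ).1 hχ).2 ?_
    have h := H.van (fun ψ => if ψ = χ then 1 else 0) (fun ψ hψ => by
        by_cases e : ψ = χ
        · exact e ▸ H.msupp χ ((hmemT χ).1 hχ).2
        · simp [e] at hψ) fun i => by
      simp only [ite_mul, one_mul, zero_mul, sum_ite_eq', mem_univ, if_true]
      exact hξ0 i χ hχ (Ne.symm (hno i))
    simpa using h
  have hξi : Function.Injective ξ := by
    have himg : T = univ.image ξ := by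
      ext χ
      simp only [mem_image, mem_univ, true_and]
      exact ⟨hsurj χ, fun ⟨i, hi⟩ => hi ▸ hξT i⟩
    rw [← Set.injOn_univ, ← coe_univ, ← card_image_iff, ← himg, hcard, card_univ, Fintype.card_fin]
  have hξo : ∀ i, ξ i ≠ o := fun i => ((hmemT _).1 (hξT i)).1
  have hξm : ∀ i, m (ξ i) ≠ 0 := fun i => ((hmemT _).1 (hξT i)).2
  have hdiag : ∀ i, k i (ξ i) = -m (ξ i) := fun i => by
    have h := hξv i
    rcases hm (ξ i) with h1 | h1 | h1
    · rw [h1] at h ⊢; linarith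
    · exact absurd h1 (hξm i)
    · rw [h1] at h ⊢; linarith
  have hoff : ∀ i j, i ≠ j → k i (ξ j) = 0 := fun i j hij =>
    hξ0 i _ (hξT j) fun h => hij (hξi h).symm
  have hsupp : ∀ χ, m χ ≠ 0 → χ ≠ o → ∃ i, χ = ξ i := fun χ h1 h2 => by
    obtain ⟨i, hi⟩ := hsurj χ ((hmemT χ).2 ⟨h2, h1⟩)
    exact ⟨i, hi.symm⟩
  have p1 := H.pair ξ hξi hξo hsupp hξm hdiag hoff (i := 0) (j := 1) (l := 2) (by decide) (by decide) (by decide)
  have p2 := H.pair ξ hξi hξo hsupp hξm hdiag hoff (i := 0) (j := 2) (l := 1) (by decide) (by decide) (by decide)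
  have htot : ∀ F : ι → ℂ, ∑ χ, (m χ : ℂ) * F χ = F o + ((m (ξ 0) : ℂ) * F (ξ 0) +
      (m (ξ 1) : ℂ) * F (ξ 1) + (m (ξ 2) : ℂ) * F (ξ 2)) := fun F => by
    rw [sum_supported (insert o (univ.image ξ)) (fun χ hχ => by
      by_contra h0
      simp only [mem_insert, mem_image, mem_univ, true_and, not_or, not_exists] at hχ
      obtain ⟨i, hi⟩ := hsupp χ h0 hχ.1
      exact hχ.2 i hi.symm) F, sum_insert (by simpa using hξo), sum_image hξi.injOn,
      Fin.sum_univ_three, H.mo, Int.cast_one, one_mul]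
  have hA := H.mA
  have hB := H.mB
  rw [htot, H.Ao] at hA
  rw [htot, H.Bo] at hB
  apply nt (ξ 0) (hξo 0)
  have hz : (m (ξ 0) : ℂ) ≠ 0 := Int.cast_ne_zero.2 (hξm 0)
  apply mul_left_cancel₀ hz
  linear_combination (m (ξ 0) : ℂ) * B (ξ 0) * hA - (m (ξ 0) : ℂ) * A (ξ 0) * hB - p1 - p2

end CfsgLib.ZStar.Combi
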