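import Cfsg.Agent.ZStar.EightCentral
import Cfsg.Agent.ZStar.EightCombi
import Cfsg.Agent.Blocks.SecondMain
import Cfsg.Agent.Blocks.ThirdMain

/-!
# No perfect configuration with a quaternion Sylow subgroup of order eight

From the four principal characters of `C(a)` trivial on `a` three generalized characters supported
at the section of `a` are induced to `G`; together with the one at the elements of order divisible
by four they force `χ(a) = χ(1)` for a nontrivial character.
-/

set_option autoImplicit false
set_option linter.style.haveILetI false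
set_option linter.unusedSectionVars false

namespace CfsgLib.ZStar

open Cfsg Finset CfsgLib.Block CfsgLib.Block.Chr CfsgLib.Char
open scoped ComplexConjugate

universe u

/-- An element in its own centralizer. -/
def centA {G : Type u} [Group G] (a : G) : Subgroup.centralizer ({a} : Set G) :=
  ⟨a, Subgroup.mem_centralizer_singleton_iff.2 rfl⟩

@[simp] theorem coe_centA {G : Type u} [Group G] (a : G) : (centA a : G) = a := rfl

namespace Eight

variable {G : Type u} [Group G] [Fintype G] {a x b : G}

theorem x_mem_centralizer (D : Eight G a x b) : x ∈ Subgroup.centralizer ({a} : Set G) := by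
  rw [Subgroup.mem_centralizer_singleton_iff, ← D.hxa]
  exact (Commute.self_pow x 2).eq

theorem mem_centralizer_of_conj (D : Eight G a x b) {t : G}
    (h : t * x * t⁻¹ ∈ Subgroup.centralizer ({a} : Set G)) :
    t ∈ Subgroup.centralizer ({a} : Set G) := by
  have h2 : t * a * t⁻¹ = (t * x * t⁻¹) ^ 2 := by rw [conj_pow, D.hxa]
  have hta : Commute a (t * a * t⁻¹) :=
    h2 ▸ (show Commute a (t * x * t⁻¹) from
      (Subgroup.mem_centralizer_singleton_iff.1 h).symm).pow_right 2
  rw [Subgroup.mem_centralizer_singleton_iff]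
  exact mul_inv_eq_iff_eq_mul.1 (D.huniq _ ((Invol.orderOf_conj_eq t a).trans D.ha) hta)

theorem b_mem_centralizer (D : Eight G a x b) : b ∈ Subgroup.centralizer ({a} : Set G) :=
  D.mem_centralizer_of_conj (D.hb ▸ inv_mem D.x_mem_centralizer)

/-- The data inside `C(a)`. -/
noncomputable def local' (D : Eight G a x b)
    (h8 : 8 ∣ Nat.card (Subgroup.centralizer ({a} : Set G))) :
    Eight (Subgroup.centralizer ({a} : Set G))
      (centA a) ⟨x, D.x_mem_centralizer⟩
      ⟨b, D.b_mem_centralizer⟩ where
  huniq v hv hc := Subtype.ext (D.huniq v (by rw [Subgroup.orderOf_coe]; exact hv)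
    (hc.map (Subgroup.centralizer ({a} : Set G)).subtype))
  ha := by rw [← Subgroup.orderOf_coe]; exact D.ha
  hx := by rw [← Subgroup.orderOf_coe]; exact D.hx
  hxa := Subtype.ext (by push_cast; exact D.hxa)
  hb := Subtype.ext (by push_cast; exact D.hb)
  ρ := D.ρ.comp
    { toFun := fun c => ⟨((c : Subgroup.centralizer ({a} : Set G)) : G),
        Subgroup.mem_centralizer_singleton_iff.2 (congrArg Subtype.val
          (Subgroup.mem_centralizer_singleton_iff.1 c.2) :)⟩
      map_one' := rfl
      map_mul' := fun _ _ => rfl }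
  hρ4 _ := D.hρ4 _
  hρa c hc := D.hρa _ (congrArg Subtype.val hc)
  hρb c d hd := D.hρb _ _ (congrArg Subtype.val hd)
  hρne h := by
    have := DFunLike.congr_fun h ⟨⟨x, D.x_mem_centralizer⟩,
      Subgroup.mem_centralizer_singleton_iff.2 rfl⟩
    exact D.hρx _ rfl this
  hρ2 _ := D.hρ2 _
  hρx c hc := D.hρx _ (congrArg Subtype.val hc)
  hodd c d hc hd := by
    simp only [← Subgroup.orderOf_coe, Subgroup.coe_mul] at hc hd ⊢
    have := D.hodd
      ⟨((c : Subgroup.centralizer ({a} : Set G)) : G), Subgroup.mem_centralizer_singleton_iff.2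
        (congrArg Subtype.val (Subgroup.mem_centralizer_singleton_iff.1 c.2) :)⟩
      ⟨((d : Subgroup.centralizer ({a} : Set G)) : G), Subgroup.mem_centralizer_singleton_iff.2
        (congrArg Subtype.val (Subgroup.mem_centralizer_singleton_iff.1 d.2) :)⟩
      (by rwa [← Subgroup.orderOf_coe]) (by rwa [← Subgroup.orderOf_coe])
    rwa [← Subgroup.orderOf_coe] at this
  hconj y hy := by
    obtain ⟨t, ht⟩ := isConj_iff.1 (D.hconj (y : G) (by rw [Subgroup.orderOf_coe]; exact hy))
    exact isConj_iff.2 ⟨⟨t, D.mem_centralizer_of_conj (ht ▸ y.2)⟩, Subtype.ext (by push_cast; exact ht)⟩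
  h8 g hg := D.h8 (g : G) (by rwa [Subgroup.orderOf_coe])
  hcard := by
    refine le_antisymm ?_ ?_
    · rw [← D.hcard]
      exact (Nat.factorization_le_iff_dvd Nat.card_pos.ne' Nat.card_pos.ne').2
        (Subgroup.card_subgroup_dvd_card _) 2
    · exact (Nat.Prime.pow_dvd_iff_le_factorization Nat.prime_two Nat.card_pos.ne').1 h8

end Eight

/-- The function `2 d` at the elements of twice odd order. -/
noncomputable def evenPart {K : Type u} [Group K] (d : K → ℂ) : K → ℂ :=
  fun h => 2 * d h - 2 * regPart 2 d h

section Local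

variable {G : Type u} [Group G] [Fintype G] {a x b : G} (D : Eight G a x b)
  (h8 : 8 ∣ Nat.card (Subgroup.centralizer ({a} : Set G)))

variable [Fintype (Subgroup.centralizer ({a} : Set G))]


/-- Functions on `C(a)` invariant under `a` and zero at elements of order divisible by four. -/
structure Adm (d : (Subgroup.centralizer ({a} : Set G)) → ℂ) : Prop where
  gen : IsGeneralizedCharacter (Subgroup.centralizer ({a} : Set G)) d
  h0 : ∀ h, 4 ∣ orderOf h → d h = 0
  hd : ∀ h, d ((centA a) * h) = d h

theorem commute_a₀ (h : (Subgroup.centralizer ({a} : Set G))) : Commute (centA a) h :=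
  Subtype.ext (Subgroup.mem_centralizer_singleton_iff.1 h.2).symm

theorem evenPart_of_odd {d : (Subgroup.centralizer ({a} : Set G)) → ℂ} {h : (Subgroup.centralizer ({a} : Set G))} (ho : ¬ 2 ∣ orderOf h) : evenPart d h = 0 := by
  rw [evenPart, regPart_of_not_dvd ho, sub_self]

theorem evenPart_of_even {d : (Subgroup.centralizer ({a} : Set G)) → ℂ} {h : (Subgroup.centralizer ({a} : Set G))} (ho : 2 ∣ orderOf h) :
    evenPart d h = 2 * d h := by
  rw [evenPart, regPart_of_dvd ho, mul_zero, sub_zero]

theorem evenPart_ne {d : (Subgroup.centralizer ({a} : Set G)) → ℂ} (hd : Adm d) {h : (Subgroup.centralizer ({a} : Set G))} (hne : evenPart d h ≠ 0) :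
    2 ∣ orderOf h ∧ ¬ 4 ∣ orderOf h := by
  have h2 : 2 ∣ orderOf h := by_contra fun h2 => hne (evenPart_of_odd h2)
  exact ⟨h2, fun h4 => hne (by rw [evenPart_of_even h2, hd.h0 h h4, mul_zero])⟩

include D h8

theorem isGeneralized_evenPart {d : (Subgroup.centralizer ({a} : Set G)) → ℂ} (hd : Adm d) :
    IsGeneralizedCharacter (Subgroup.centralizer ({a} : Set G)) (evenPart d) := by
  classical
  have h1 : IsGeneralizedCharacter (Subgroup.centralizer ({a} : Set G)) (fun h => 2 * regPart 2 d h) := by
    refine isGeneralized_of_classInner_int ?_ fun χ hχ => ?_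
    · intro g t
      have ho : orderOf (t * g * t⁻¹) = orderOf g := Invol.orderOf_conj_eq t g
      simp only [regPart, ho, IsGeneralized.isClassFunction hd.gen g t]
    · obtain ⟨z, hz⟩ := (D.local' h8).two_reg_int commute_a₀ hd.gen hd.h0 hd.hd ⟨χ, hχ⟩
      refine ⟨z, ?_⟩
      rw [← hz]
      simp only [classInner, mul_sum]
      exact sum_congr rfl fun g _ => by ring
  have e : evenPart d = (((2 : ℤ) : ℂ) • d) - fun h => 2 * regPart 2 d h := by
    funext h; simp [evenPart]
  rw [e]
  exact IsGeneralized.sub (IsGeneralized.intCast_smul hd.gen 2) h1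

omit h8 in
theorem indFun_evenPart_of_four {d : (Subgroup.centralizer ({a} : Set G)) → ℂ} (hd : Adm d) {g : G} (hg : 4 ∣ orderOf g) :
    indFun (Subgroup.centralizer ({a} : Set G)) (evenPart d) g = 0 := by
  rw [indFun_def, sum_eq_zero, mul_zero]
  intro y _
  by_cases hy : y⁻¹ * g * y ∈ (Subgroup.centralizer ({a} : Set G))
  · rw [extendByZero_of_mem _ hy]
    by_contra hne
    apply (evenPart_ne hd hne).2
    rw [← Subgroup.orderOf_coe]
    rwa [show orderOf (y⁻¹ * g * y) = orderOf g from by simpa using Invol.orderOf_conj_eq y⁻¹ g]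
  · exact extendByZero_of_not_mem _ hy

omit h8 in
theorem indFun_evenPart_of_odd {d : (Subgroup.centralizer ({a} : Set G)) → ℂ} {g : G} (hg : Odd (orderOf g)) :
    indFun (Subgroup.centralizer ({a} : Set G)) (evenPart d) g = 0 := by
  rw [indFun_def, sum_eq_zero, mul_zero]
  intro y _
  by_cases hy : y⁻¹ * g * y ∈ (Subgroup.centralizer ({a} : Set G))
  · rw [extendByZero_of_mem _ hy]
    apply evenPart_of_odd
    rw [← Subgroup.orderOf_coe]
    rw [show orderOf (y⁻¹ * g * y) = orderOf g from by simpa using Invol.orderOf_conj_eq y⁻¹ g]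
    exact fun h => Nat.not_even_iff_odd.2 hg (even_iff_two_dvd.2 h)
  · exact extendByZero_of_not_mem _ hy

omit h8 in
/-- The value on the support: the section of `a` is a TI set. -/
theorem indFun_evenPart_apply {d e : (Subgroup.centralizer ({a} : Set G)) → ℂ} (hd : Adm d) (he : Adm e) {h : (Subgroup.centralizer ({a} : Set G))}
    (hne : evenPart d h ≠ 0) : indFun (Subgroup.centralizer ({a} : Set G)) (evenPart e) h = evenPart e h := by
  classical
  obtain ⟨h2, h4⟩ := evenPart_ne hd hne
  have hpow : ∀ k : (Subgroup.centralizer ({a} : Set G)), 2 ∣ orderOf k → ¬ 4 ∣ orderOf k → (k : G) ^ (orderOf k / 2) = a := by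
    intro k k2 k4
    obtain ⟨m, hm⟩ := k2
    have hm0 : 0 < m := by have := orderOf_pos k; omega
    refine D.huniq _ ?_ ?_
    · rw [orderOf_pow, Subgroup.orderOf_coe, hm, Nat.mul_div_cancel_left _ two_pos,
        Nat.gcd_eq_right (dvd_mul_left m 2), Nat.mul_div_cancel _ hm0]
    · exact (show Commute a (k : G) from (Subgroup.mem_centralizer_singleton_iff.1 k.2).symm).pow_right _
  have hcl : IsClassFunction (Subgroup.centralizer ({a} : Set G)) (evenPart e) := fun g t => by
    have ho : orderOf (t * g * t⁻¹) = orderOf g := Invol.orderOf_conj_eq t g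
    simp only [evenPart, regPart, ho, IsGeneralized.isClassFunction he.gen g t]
  have key : ∀ y : G, extendByZero (Subgroup.centralizer ({a} : Set G)) (evenPart e) (y⁻¹ * h * y) =
      if y ∈ (Subgroup.centralizer ({a} : Set G)) then evenPart e h else 0 := by
    intro y
    by_cases hy : y ∈ (Subgroup.centralizer ({a} : Set G))
    · rw [if_pos hy, extendByZero_of_mem _ (mul_mem (mul_mem (inv_mem hy) h.2) hy)]
      rw [← hcl h ⟨y⁻¹, inv_mem hy⟩]
      congr 1
      exact Subtype.ext (by simp)
    · rw [if_neg hy]
      by_cases hm : y⁻¹ * h * y ∈ (Subgroup.centralizer ({a} : Set G))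
      · rw [extendByZero_of_mem _ hm]
        by_contra hne'
        obtain ⟨k2, k4⟩ := evenPart_ne he hne'
        have e1 := hpow ⟨_, hm⟩ k2 k4
        have ho : orderOf (⟨_, hm⟩ : (Subgroup.centralizer ({a} : Set G))) = orderOf h := by
          rw [← Subgroup.orderOf_coe, ← Subgroup.orderOf_coe]
          simpa using Invol.orderOf_conj_eq y⁻¹ (h : G)
        rw [ho] at e1
        simp only at e1
        rw [show y⁻¹ * (h : G) * y = y⁻¹ * h * y⁻¹⁻¹ by rw [inv_inv], conj_pow, hpow h h2 h4,
          inv_inv] at e1
        refine hy (Subgroup.mem_centralizer_singleton_iff.2 ?_)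
        calc y * a = y * (y⁻¹ * a * y) := by rw [e1]
          _ = a * y := by group
      · exact extendByZero_of_not_mem _ hm
  rw [indFun_def, sum_congr rfl fun y _ => key y, ← sum_filter, sum_const, nsmul_eq_mul,
    ← mul_assoc, show (univ.filter (· ∈ (Subgroup.centralizer ({a} : Set G)))).card = Nat.card (Subgroup.centralizer ({a} : Set G)) by
      rw [Nat.card_eq_fintype_card, Fintype.card_subtype],
    inv_mul_cancel₀ (by exact_mod_cast (Nat.card_pos (α := (Subgroup.centralizer ({a} : Set G)))).ne'), one_mul]

omit h8 in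
theorem classInner_indFun_evenPart {d e : (Subgroup.centralizer ({a} : Set G)) → ℂ} (hd : Adm d) (he : Adm e) :
    classInner (indFun (Subgroup.centralizer ({a} : Set G)) (evenPart d)) (indFun (Subgroup.centralizer ({a} : Set G)) (evenPart e)) =
      classInner (evenPart d) (evenPart e) := by
  rw [classInner_indFun _ (isClassFunction_indFun (Subgroup.centralizer ({a} : Set G)) _), classInner_def, classInner_def]
  congr 1
  refine sum_congr rfl fun h _ => ?_
  by_cases hne : evenPart d h = 0
  · rw [hne, zero_mul, zero_mul]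
  · rw [indFun_evenPart_apply D hd he hne]

theorem classInner_evenPart {d e : (Subgroup.centralizer ({a} : Set G)) → ℂ} (hd : Adm d) (he : Adm e) :
    classInner (evenPart d) (evenPart e) = 2 * classInner d e := by
  have h := (D.local' h8).classInner_split commute_a₀ d e hd.h0 hd.hd he.hd
  have e1 : classInner (evenPart d) (evenPart e) =
      4 * classInner d e - 4 * classInner (regPart 2 d) e := by
    simp only [classInner, mul_sum, ← sum_sub_distrib]
    refine sum_congr rfl fun g _ => ?_
    by_cases hg : 2 ∣ orderOf g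
    · rw [evenPart_of_even hg, evenPart_of_even hg, regPart_of_dvd hg, map_mul, map_ofNat]; ring
    · rw [evenPart_of_odd hg, evenPart_of_odd hg, regPart_of_not_dvd hg]; simp
  rw [e1]
  linear_combination 2 * h

theorem classInner_evenPart_one {d : (Subgroup.centralizer ({a} : Set G)) → ℂ} (hd : Adm d) :
    classInner (evenPart d) (fun _ => 1) = classInner d (fun _ => 1) := by
  have h := (D.local' h8).classInner_split commute_a₀ d (fun _ => 1) hd.h0 hd.hd fun _ => rfl
  have e1 : classInner (evenPart d) (fun _ => 1) =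
      2 * classInner d (fun _ => 1) - 2 * classInner (regPart 2 d) (fun _ => 1) := by
    simp only [classInner, evenPart, mul_sum, ← sum_sub_distrib]
    exact sum_congr rfl fun g _ => by ring
  rw [e1]
  linear_combination h

/-- The coefficient at `χ`: the inner product of `d` with the section function of `χ`. -/
theorem classInner_evenPart_res {d : (Subgroup.centralizer ({a} : Set G)) → ℂ} (hd : Adm d) (χ : G → ℂ) :
    classInner (evenPart d) (fun h : (Subgroup.centralizer ({a} : Set G)) => χ h) =
      2 * conj (classInner (regPart 2 fun h : (Subgroup.centralizer ({a} : Set G)) => χ (a * h)) d) := by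
  classical
  rw [classInner_conj_symm]
  simp only [classInner, mul_sum]
  refine Fintype.sum_equiv (Equiv.mulLeft (centA a)) _ _ fun h => ?_
  simp only [Equiv.coe_mulLeft]
  have hcoe : a * (((centA a) * h : (Subgroup.centralizer ({a} : Set G))) : G) = (h : G) := by
    show a * (a * (h : G)) = h
    rw [← mul_assoc, Invol.mul_self_eq_one D.ha, one_mul]
  by_cases h2 : 2 ∣ orderOf h
  · by_cases h4 : 4 ∣ orderOf h
    · rw [evenPart_of_even h2, hd.h0 h h4, hd.hd, hd.h0 h h4]
      simp
    · have hodd := (D.local' h8).odd_a_mul commute_a₀ h4 h2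
      rw [evenPart_of_even h2, regPart_of_not_dvd fun hh =>
        Nat.not_even_iff_odd.2 hodd (even_iff_two_dvd.2 hh), hd.hd, hcoe]
      ring
  · rw [evenPart_of_odd h2, regPart_of_dvd]
    · simp
    · rw [(D.local' h8).orderOf_a_mul commute_a₀
        (Nat.not_even_iff_odd.1 fun he => h2 (even_iff_two_dvd.1 he))]
      exact dvd_mul_right 2 _

end Local

section Main

variable {G : Type u} [Group G] [Fintype G] {a x b : G} {M : Ideal AlgInt} [M.IsPrime]

/-- The section function of a character outside the principal block has no principal component. -/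
theorem blockPart_section_eq_zero (hM : IsPModular 2 M) (ha : orderOf a = 2)
    [Fintype (Subgroup.centralizer ({a} : Set G))] {χ : IrrCharacter G}
    (hχ : χ ∉ principalBlock M G) (y : Subgroup.centralizer ({a} : Set G))
    (hy : ¬ 2 ∣ orderOf y) :
    blockPart (principalBlock M (Subgroup.centralizer ({a} : Set G)))
      (fun c : Subgroup.centralizer ({a} : Set G) => (χ : G → ℂ) (a * (c : G))) y = 0 := by
  refine blockPart_eq_zero_of_not_induced hM (k := 1) (by rw [ha, pow_one])
    (isPBlock_blockOf (M := M) χ) (mem_blockOf_self χ) isPBlock_principalBlock (fun hind => ?_) y hy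
  have h2 := (third_main hM (centralizer_induced hM (k := 1) (by rw [ha, pow_one])
    isPBlock_principalBlock)).2 rfl
  exact hχ (induced_unique hind h2 ▸ mem_blockOf_self χ)

theorem sum_vanish (hM : IsPModular 2 M) (D : Eight G a x b)
    (h8 : 8 ∣ Nat.card (Subgroup.centralizer ({a} : Set G))) [Fintype (IrrCharacter G)]
    [Fintype (Subgroup.centralizer ({a} : Set G))]
    [Fintype (IrrCharacter (Subgroup.centralizer ({a} : Set G)))]
    {mH : IrrCharacter (Subgroup.centralizer ({a} : Set G)) → ℤ}
    (hexpH : ∀ h, (D.local' h8).psi h =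
      ∑ μ : IrrCharacter (Subgroup.centralizer ({a} : Set G)), (mH μ : ℂ) *
        (μ : Subgroup.centralizer ({a} : Set G) → ℂ) h)
    (hxH : ∀ μ : IrrCharacter (Subgroup.centralizer ({a} : Set G)),
      μ ∈ principalBlock M (Subgroup.centralizer ({a} : Set G)) →
        (μ : Subgroup.centralizer ({a} : Set G) → ℂ) ⟨x, D.x_mem_centralizer⟩ = mH μ)
    {p : Fin 3 → IrrCharacter (Subgroup.centralizer ({a} : Set G))}
    (hmo : mH (oneIrr _) = 1)
    (hpsupp : ∀ μ, mH μ ≠ 0 → μ ≠ oneIrr _ → ∃ i, μ = p i)
    (hpi : Function.Injective p) (hpo : ∀ i, p i ≠ oneIrr _)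
    (hpm : ∀ i, mH (p i) ≠ 0)
    {u : IrrCharacter G → ℤ} (hu : ∀ χ, u χ ≠ 0 → χ ∈ principalBlock M G)
    (horth : ∀ i, classInner (regPart 2 fun h : Subgroup.centralizer ({a} : Set G) =>
      ∑ χ : IrrCharacter G, (u χ : ℂ) * (χ : G → ℂ) (a * h))
      (fun h => 1 - (mH (p i) : ℂ) * (p i : Subgroup.centralizer ({a} : Set G) → ℂ) h) = 0) :
    ∑ χ : IrrCharacter G, (u χ : ℂ) * (χ : G → ℂ) a = 0 := by
  classical
  set α : Subgroup.centralizer ({a} : Set G) → ℂ :=
    fun h => ∑ χ : IrrCharacter G, (u χ : ℂ) * (χ : G → ℂ) (a * h) with hα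
  have hpsi0 : classInner (regPart 2 α) (D.local' h8).psi = 0 := by
    rw [classInner, sum_eq_zero, mul_zero]
    intro h _
    by_cases h2 : 2 ∣ orderOf h
    · rw [regPart_of_dvd h2, zero_mul]
    · rw [(D.local' h8).psi_eq_zero fun h4 => h2 ((show 2 ∣ 4 by norm_num).trans h4), map_zero, mul_zero]
  have hzero : ∀ μ : IrrCharacter (Subgroup.centralizer ({a} : Set G)), mH μ ≠ 0 →
      classInner (regPart 2 α) (μ : Subgroup.centralizer ({a} : Set G) → ℂ) = 0 := by
    have hlin : ∀ i, classInner (regPart 2 α) (fun _ => 1) =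
        (mH (p i) : ℂ) * classInner (regPart 2 α) (p i : Subgroup.centralizer ({a} : Set G) → ℂ) := by
      intro i
      have h := horth i
      simp only [classInner, map_sub, map_one, map_mul, map_intCast, mul_sub, mul_one,
        sum_sub_distrib, mul_sum] at h ⊢
      rw [← sub_eq_zero, ← h]
      congr 1
      exact sum_congr rfl fun g _ => by ring
    have hone : classInner (regPart 2 α) (fun _ => 1) = 0 := by
      have e : classInner (regPart 2 α) (D.local' h8).psi = ∑ μ, (mH μ : ℂ) *
          classInner (regPart 2 α) (μ : Subgroup.centralizer ({a} : Set G) → ℂ) := by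
        simp only [classInner, mul_sum]
        rw [sum_congr rfl fun g _ => by rw [hexpH g, map_sum, mul_sum, mul_sum]]
        rw [sum_comm]
        simp only [map_mul, map_intCast]
        exact sum_congr rfl fun μ _ => sum_congr rfl fun g _ => by ring
      rw [hpsi0, Combi.sum_supported (insert (oneIrr _) (univ.image p)) (fun μ hμ => by
        by_contra h0
        simp only [mem_insert, mem_image, mem_univ, true_and, not_or, not_exists] at hμ
        obtain ⟨i, hi⟩ := hpsupp μ h0 hμ.1
        exact hμ.2 i hi.symm), sum_insert (by simpa using hpo), sum_image hpi.injOn,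
        Fin.sum_univ_three, hmo, oneIrr_coe, ← hlin, ← hlin, ← hlin] at e
      push_cast at e
      linear_combination -(1 / 4 : ℂ) * e
    intro μ hμ
    by_cases h1 : μ = oneIrr _
    · rw [h1, oneIrr_coe]; exact hone
    · obtain ⟨i, rfl⟩ := hpsupp μ hμ h1
      exact (mul_eq_zero.1 ((hlin i).symm.trans hone)).resolve_left (Int.cast_ne_zero.2 (hpm i))
  -- the principal component at the identity
  set b₀ := principalBlock M (Subgroup.centralizer ({a} : Set G))
  have hr : ∀ h, blockPart b₀ (regPart 2 α) h = regPart 2 (blockPart b₀ α) h := fun h =>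
    congrFun (blockPart_regPart hM isPBlock_principalBlock α) h
  have hP : blockPart b₀ α 1 = 0 := by
    have ha1 := hr (centA a)
    have h11 := hr 1
    rw [regPart_of_not_dvd (by rw [orderOf_one]; decide)] at h11
    rw [regPart_of_dvd (show 2 ∣ orderOf (centA a) by rw [← Subgroup.orderOf_coe]; exact D.ha.symm ▸ dvd_rfl)] at ha1
    have hsum : blockPart b₀ (regPart 2 α) 1 + blockPart b₀ (regPart 2 α) (centA a) = 0 := by
      rw [blockPart_eq_sum_inner, blockPart_eq_sum_inner, ← sum_add_distrib]
      refine sum_eq_zero fun μ hμ => ?_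
      obtain ⟨ε, hε, hval⟩ := exists_central_sign (D.local' h8).ha commute_a₀ μ
      have hμa : (μ : Subgroup.centralizer ({a} : Set G) → ℂ) (centA a) =
          ε * (μ : Subgroup.centralizer ({a} : Set G) → ℂ) 1 := by
        have := hval 1
        rwa [mul_one] at this
      rcases hε with rfl | rfl
      · have hne := (D.local' h8).principal_even_apply_ne_zero hM commute_a₀ (mem_filter.1 hμ).2
          (fun h => by rw [hval, one_mul])
        rw [hxH μ (mem_filter.1 hμ).2, Int.cast_ne_zero] at hne
        rw [hzero μ hne, zero_mul, zero_mul, add_zero]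
      · rw [hμa]; ring
    rw [ha1, add_zero, h11] at hsum
    exact hsum
  -- compare with the second main theorem
  have hlinP : blockPart b₀ α 1 = ∑ χ : IrrCharacter G, (u χ : ℂ) *
      blockPart b₀ (fun c : Subgroup.centralizer ({a} : Set G) => (χ : G → ℂ) (a * (c : G))) 1 := by
    simp only [blockPart_eq_sum_inner, hα, classInner, sum_mul, mul_sum]
    conv_rhs => rw [sum_comm]
    refine sum_congr rfl fun μ _ => ?_
    rw [sum_comm]
    exact sum_congr rfl fun χ _ => sum_congr rfl fun g _ => by ring
  rw [← hP, hlinP]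
  refine sum_congr rfl fun χ _ => ?_
  by_cases h0 : u χ = 0
  · rw [h0, Int.cast_zero, zero_mul, zero_mul]
  · congr 1
    have h := principal_section hM (k := 1) (x := a) (by rw [D.ha, pow_one]) (hu χ h0)
      (1 : Subgroup.centralizer ({a} : Set G)) (by rw [orderOf_one]; decide)
    rw [OneMemClass.coe_one, mul_one] at h
    exact h

/-- **The quaternion group of order eight.** -/
theorem Eight.false_of_isolated (D : Eight G a x b) (ha : IsIsolatedInvolution a)
    (hgen : Subgroup.normalClosure ({a} : Set G) = ⊤)
    (h8 : 8 ∣ Nat.card (Subgroup.centralizer ({a} : Set G))) : False := by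
  classical
  obtain ⟨M, hM⟩ := exists_isPModular Nat.prime_two
  haveI := hM.2.1.isPrime
  letI := irrFintype (G := G)
  letI := irrFintype (G := Subgroup.centralizer ({a} : Set G))
  set DH := D.local' h8
  obtain ⟨mH, hmoH, hmmH, hexpH, -, hsuppH, hxH⟩ := DH.exists_four hM
  obtain ⟨m, hmo, hmm, hexp, hcoef, hsupp, hx⟩ := D.exists_four hM
  obtain ⟨hbH, hcardH⟩ := short_vector hmoH hmmH le_rfl
  set T := (univ.filter fun μ => mH μ ≠ 0).erase (oneIrr (Subgroup.centralizer ({a} : Set G)))
  have hT : T.card = 3 := by
    rw [card_erase_of_mem (mem_filter.2 ⟨mem_univ _, by rw [hmoH]; exact one_ne_zero⟩)]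
    omega
  let eqv := (T.equivFinOfCardEq hT).symm
  set p : Fin 3 → IrrCharacter (Subgroup.centralizer ({a} : Set G)) := fun i => (eqv i).1
  have hpT : ∀ i, p i ≠ oneIrr _ ∧ mH (p i) ≠ 0 := fun i => by
    have h := (eqv i).2
    exact ⟨(mem_erase.1 h).1, (mem_filter.1 (mem_erase.1 h).2).2⟩
  have hpi : Function.Injective p := Subtype.val_injective.comp eqv.injective
  have hpsupp : ∀ μ, mH μ ≠ 0 → μ ≠ oneIrr _ → ∃ i, μ = p i := fun μ h1 h2 => by
    obtain ⟨i, hi⟩ := eqv.surjective ⟨μ, mem_erase.2 ⟨h2, mem_filter.2 ⟨mem_univ _, h1⟩⟩⟩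
    exact ⟨i, (congrArg Subtype.val hi).symm⟩
  have hpB : ∀ i, p i ∈ principalBlock M (Subgroup.centralizer ({a} : Set G)) := fun i =>
    hsuppH _ (hpT i).2
  have hsqH : ∀ i, (mH (p i) : ℂ) * (mH (p i) : ℂ) = 1 := fun i => by
    rcases hbH (p i) with h | h | h
    · rw [h]; norm_num
    · exact absurd h (hpT i).2
    · rw [h]; norm_num
  set d : Fin 3 → Subgroup.centralizer ({a} : Set G) → ℂ := fun i h =>
    1 - (mH (p i) : ℂ) * (p i : Subgroup.centralizer ({a} : Set G) → ℂ) h with hd
  have hadm : ∀ i, Adm (d i) := fun i => by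
    refine ⟨IsGeneralized.sub isGeneralized_one (IsGeneralized.intCast_smul
      (IsIrrCharacter.isGeneralized (p i).2) (mH (p i))), fun h h4 => ?_, fun h => ?_⟩
    · simp only [hd, DH.principal_const hM (hpB i) h4, hxH _ (hpB i), hsqH i, sub_self]
    · obtain ⟨ε, hε, hval⟩ := exists_central_sign DH.ha commute_a₀ (p i)
      simp only [hd, hval]
      rcases hε with rfl | rfl
      · rw [one_mul]
      · -- `a x` is conjugate to `x`
        exfalso
        set x₀ : Subgroup.centralizer ({a} : Set G) := ⟨x, D.x_mem_centralizer⟩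
        have h1 := hval x₀
        have hax : 4 ∣ orderOf ((centA a) * x₀) := by
          rw [← Subgroup.orderOf_coe]
          show 4 ∣ orderOf (a * x)
          rw [show a * x = x ^ 3 by rw [← D.hxa, ← pow_succ], orderOf_pow, D.hx]
          norm_num
        rw [DH.principal_const hM (hpB i) hax, hxH _ (hpB i)] at h1
        exact (hpT i).2 (Int.cast_eq_zero.1 (show ((mH (p i) : ℤ) : ℂ) = 0 by linear_combination h1 / 2))
  have hdd : ∀ i j, classInner (d i) (d j) = if i = j then 2 else 1 := fun i j => by
    have e : classInner (d i) (d j) = classInner (fun _ : Subgroup.centralizer ({a} : Set G) => (1 : ℂ)) (fun _ : Subgroup.centralizer ({a} : Set G) => (1 : ℂ)) -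
        (mH (p j) : ℂ) * classInner (fun _ : Subgroup.centralizer ({a} : Set G) => (1 : ℂ)) (p j : Subgroup.centralizer ({a} : Set G) → ℂ) -
        (mH (p i) : ℂ) * classInner (p i : Subgroup.centralizer ({a} : Set G) → ℂ) (fun _ : Subgroup.centralizer ({a} : Set G) => (1 : ℂ)) +
        (mH (p i) : ℂ) * (mH (p j) : ℂ) * classInner (p i : Subgroup.centralizer ({a} : Set G) → ℂ)
          (p j : Subgroup.centralizer ({a} : Set G) → ℂ) := by
      simp only [classInner, hd, mul_sum, ← sum_sub_distrib, ← sum_add_distrib, map_sub, map_one,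
        map_mul, map_intCast]
      exact sum_congr rfl fun g _ => by ring
    rw [e, ← oneIrr_coe, classInner_irr, classInner_irr, classInner_irr, classInner_irr, if_pos rfl,
      if_neg (hpT j).1.symm, if_neg (hpT i).1]
    by_cases hij : i = j
    · subst hij
      rw [if_pos rfl, if_pos rfl, mul_one, hsqH]; ring
    · rw [if_neg (fun h => hij (hpi h)), if_neg hij]; ring
  have hd1 : ∀ i, classInner (d i) (fun _ : Subgroup.centralizer ({a} : Set G) => (1 : ℂ)) = 1 := fun i => by
    have e : classInner (d i) (fun _ : Subgroup.centralizer ({a} : Set G) => (1 : ℂ)) = classInner (fun _ : Subgroup.centralizer ({a} : Set G) => (1 : ℂ)) (fun _ : Subgroup.centralizer ({a} : Set G) => (1 : ℂ)) -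
        (mH (p i) : ℂ) * classInner (p i : Subgroup.centralizer ({a} : Set G) → ℂ) (fun _ : Subgroup.centralizer ({a} : Set G) => (1 : ℂ)) := by
      simp only [classInner, hd, mul_sum, ← sum_sub_distrib, map_one]
      exact sum_congr rfl fun g _ => by ring
    rw [e, ← oneIrr_coe, classInner_irr, classInner_irr, if_pos rfl, if_neg (hpT i).1]; ring
  set Φ : Fin 3 → G → ℂ := fun i => indFun (Subgroup.centralizer ({a} : Set G)) (evenPart (d i))
  have hΦg : ∀ i, IsGeneralizedCharacter G (Φ i) := fun i =>
    IsGeneralized.indFun (isGeneralized_evenPart D h8 (hadm i))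
  choose k hk hkexp using fun i => exists_coeff (hΦg i)
  have hkinner : ∀ i (χ : IrrCharacter G), (k i χ : ℂ) = 2 * conj (classInner
      (regPart 2 fun h : Subgroup.centralizer ({a} : Set G) => (χ : G → ℂ) (a * h)) (d i)) := by
    intro i χ
    rw [← hk i χ]
    show classInner (indFun _ _) _ = _
    rw [classInner_indFun _ (isClassFunction_irr χ)]
    exact classInner_evenPart_res D h8 (hadm i) _
  have hkB : ∀ i (χ : IrrCharacter G), k i χ ≠ 0 → χ ∈ principalBlock M G := by
    intro i χ hne
    by_contra hχ
    apply hne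
    suffices h0 : classInner (regPart 2 fun h : Subgroup.centralizer ({a} : Set G) =>
        (χ : G → ℂ) (a * h)) (d i) = 0 by
      have := hkinner i χ
      rw [h0, map_zero, mul_zero] at this
      exact_mod_cast this
    set b₀ := principalBlock M (Subgroup.centralizer ({a} : Set G))
    set α := fun h : Subgroup.centralizer ({a} : Set G) => (χ : G → ℂ) (a * h)
    have hz : ∀ μ : IrrCharacter (Subgroup.centralizer ({a} : Set G)), μ ∈ b₀ →
        classInner (regPart 2 α) (μ : Subgroup.centralizer ({a} : Set G) → ℂ) = 0 := by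
      intro μ hμ
      have h1 : classInner (blockPart b₀ (regPart 2 α))
          (μ : Subgroup.centralizer ({a} : Set G) → ℂ) =
          classInner (regPart 2 α) (μ : Subgroup.centralizer ({a} : Set G) → ℂ) := by
        rw [classInner_blockPart, if_pos hμ]
      rw [← h1, blockPart_regPart hM isPBlock_principalBlock]
      have h2 : regPart 2 (blockPart b₀ α) = fun _ => 0 := by
        funext h
        by_cases hh : 2 ∣ orderOf h
        · exact regPart_of_dvd hh
        · rw [regPart_of_not_dvd hh]
          exact blockPart_section_eq_zero hM D.ha hχ h hh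
      rw [h2]
      simp [classInner]
    have e : classInner (regPart 2 α) (d i) = classInner (regPart 2 α) (fun _ => 1) -
        (mH (p i) : ℂ) * classInner (regPart 2 α) (p i : Subgroup.centralizer ({a} : Set G) → ℂ) := by
      simp only [classInner, hd, mul_sum, ← sum_sub_distrib, map_sub, map_one, map_mul, map_intCast]
      exact sum_congr rfl fun g _ => by ring
    rw [e, hz _ (hpB i), ← oneIrr_coe, hz _ oneIrr_mem_principalBlock]; ring
  have hΦ0 : ∀ i g, Odd (orderOf g) → Φ i g = 0 := fun i g hg => indFun_evenPart_of_odd D hg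
  have hpsi0 : ∀ g, Odd (orderOf g) → D.psi g = 0 := fun g hg => D.psi_eq_zero fun h =>
    absurd (Odd.of_dvd_nat hg h) (by decide)
  have hΦΦ : ∀ i j, ((∑ χ, k i χ * k j χ : ℤ) : ℂ) = if i = j then 4 else 2 := fun i j => by
    rw [← classInner_coeff (hkexp i) (hk j), classInner_indFun_evenPart D (hadm i) (hadm j),
      classInner_evenPart D h8 (hadm i) (hadm j), hdd]
    split_ifs <;> norm_num
  have hoddone : Odd (orderOf (1 : G)) := by rw [orderOf_one]; exact odd_one
  have hyp : Combi.Hyp (fun χ => χ ∈ principalBlock M G) (fun χ : IrrCharacter G => (χ : G → ℂ) 1)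
      (fun χ : IrrCharacter G => (χ : G → ℂ) a) (oneIrr G) m k := by
    refine ⟨hmo, fun i => ?_, hmm, fun i => ?_, fun i j hij => ?_, fun i => ?_, rfl, rfl,
      irr_one_ne_zero, ?_, ?_, ?_, fun i => ?_, fun i => ?_, hsupp, hkB, fun u hu hk0 => ?_,
      fun χ hχ hm0 => ?_, fun χ hne => ?_, fun χ hne hm0 h => ?_⟩
    · have h := hk i (oneIrr G)
      rw [oneIrr_coe, show Φ i = indFun _ _ from rfl,
        classInner_indFun _ (fun _ _ => rfl), classInner_evenPart_one D h8 (hadm i), hd1] at h
      exact_mod_cast h.symm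
    · have h := hΦΦ i i; rw [if_pos rfl] at h; exact_mod_cast h
    · have h := hΦΦ i j; rw [if_neg hij] at h; exact_mod_cast h
    · have h : classInner D.psi (Φ i) = 0 := by
        rw [classInner, sum_eq_zero, mul_zero]
        intro g _
        by_cases h4 : 4 ∣ orderOf g
        · rw [show Φ i g = 0 from indFun_evenPart_of_four D (hadm i) h4, map_zero, mul_zero]
        · rw [D.psi_eq_zero h4, zero_mul]
      rw [classInner_coeff hexp (hk i)] at h
      exact_mod_cast h
    · exact (hexp 1).symm.trans (hpsi0 1 hoddone)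
    · exact (hexp a).symm.trans (D.psi_eq_zero (by rw [D.ha]; decide))
    · have h := sum_sq_div_eq_zero ha (IsGeneralized.isClassFunction D.isGeneralized_psi) hpsi0
      simpa only [hcoef, mul_div_assoc] using h
    · exact (hkexp i 1).symm.trans (hΦ0 i 1 hoddone)
    · have h := sum_sq_div_eq_zero ha (IsGeneralized.isClassFunction (hΦg i)) (hΦ0 i)
      simpa only [hk, mul_div_assoc] using h
    · refine sum_vanish hM D h8 hexpH hxH hmoH hpsupp hpi (fun i => (hpT i).1)
        (fun i => (hpT i).2) hu fun i => ?_
      have e : classInner (regPart 2 fun h : Subgroup.centralizer ({a} : Set G) =>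
          ∑ χ : IrrCharacter G, (u χ : ℂ) * (χ : G → ℂ) (a * h)) (d i) =
          ∑ χ : IrrCharacter G, (u χ : ℂ) * classInner (regPart 2
            fun h : Subgroup.centralizer ({a} : Set G) => (χ : G → ℂ) (a * h)) (d i) := by
        simp only [classInner, mul_sum]
        rw [sum_comm]
        refine sum_congr rfl fun g _ => ?_
        by_cases hg : 2 ∣ orderOf g
        · simp [regPart_of_dvd hg]
        · simp only [regPart_of_not_dvd hg, sum_mul, mul_sum]
          exact sum_congr rfl fun χ _ => by ring
      have hk' : ∀ χ : IrrCharacter G, classInner (regPart 2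
          fun h : Subgroup.centralizer ({a} : Set G) => (χ : G → ℂ) (a * h)) (d i) =
          (k i χ : ℂ) / 2 := fun χ => by
        have h := congrArg (starRingEnd ℂ) (hkinner i χ)
        rw [map_intCast, map_mul, map_ofNat, Complex.conj_conj] at h
        rw [h]; ring
      show classInner _ (d i) = 0
      rw [e, sum_congr rfl fun χ _ => by rw [hk' χ, ← mul_div_assoc], ← sum_div]
      have h0 : ((∑ χ, u χ * k i χ : ℤ) : ℂ) = 0 := by rw [hk0 i, Int.cast_zero]
      push_cast at h0
      rw [h0, zero_div]
    · have h1 := char_cong_pPart hM (isCharacter_irr χ) (Commute.one_right a) (n := 1)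
        (by rw [pow_one, sq, Invol.mul_self_eq_one D.ha]) (m := 1) (by decide) (one_pow 1)
      have h2 := char_cong_pPart hM (isCharacter_irr χ) (Commute.one_right x) (n := 2)
        (by rw [show (2 : ℕ) ^ 2 = 4 from rfl, ← D.hx, pow_orderOf_eq_one]) (m := 1) (by decide) (one_pow 1)
      rw [mul_one] at h1 h2
      rw [hx χ hχ, hm0, Int.cast_zero, zero_sub] at h2
      have h3 : MemLocalIdeal M ((χ : G → ℂ) 1) := by simpa using memLocalIdeal_neg h2
      have h4 : MemLocalIdeal M ((χ : G → ℂ) a) := by simpa using memLocalIdeal_add h1 h3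
      exact ⟨fun h => not_memLocalIdeal_one (h ▸ h4),
        fun h => not_memLocalIdeal_one (M := M) (by
          rw [h] at h4; simpa using memLocalIdeal_neg h4)⟩
    · intro h0
      have h1 := char_cong_pPart hM (isCharacter_irr χ) (Commute.one_right a) (n := 1)
        (by rw [pow_one, sq, Invol.mul_self_eq_one D.ha]) (m := 1) (by decide) (one_pow 1)
      have h2 := char_cong_pPart hM (isCharacter_irr χ) (Commute.one_right x) (n := 2)
        (by rw [show (2 : ℕ) ^ 2 = 4 from rfl, ← D.hx, pow_orderOf_eq_one]) (m := 1) (by decide) (one_pow 1)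
      rw [mul_one] at h1 h2
      rw [h0, zero_sub] at h1
      have h3 : MemLocalIdeal M ((χ : G → ℂ) 1) := by simpa using memLocalIdeal_neg h1
      rw [hx χ (hsupp χ hne)] at h2
      have h4 : MemLocalIdeal M ((m χ : ℤ) : ℂ) := by simpa using memLocalIdeal_add h2 h3
      rcases (short_vector hmo hmm le_rfl).1 χ with h | h | h
      · rw [h] at h4; exact not_memLocalIdeal_one (by simpa using memLocalIdeal_neg h4)
      · exact hne h
      · rw [h] at h4; exact not_memLocalIdeal_one (by simpa using h4)
    · -- degree one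
      obtain ⟨n, σ, hirr, hσ⟩ := χ.2
      have hn : n = 1 := by
        have h' : ((m χ * n : ℤ) : ℂ) = ((-1 : ℤ) : ℂ) := by
          push_cast
          rw [← hσ, char_one_eq] at h
          simpa using h
        have h'' : m χ * n = -1 := by exact_mod_cast h'
        have := Int.isUnit_iff.1 (IsUnit.of_mul_eq_one (-(m χ)) (by linear_combination -h'') : IsUnit (n : ℤ))
        omega
      subst hn
      have hmul : ∀ g k : G, σ.character (g * k) = σ.character g * σ.character k := fun g k => by
        have e1 : ∀ f : Module.End ℂ (Fin 1 → ℂ),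
            ∃ c : ℂ, f = c • (1 : Module.End ℂ (Fin 1 → ℂ)) := by
          intro f
          refine ⟨f (fun _ => 1) 0, LinearMap.ext fun v => funext fun j => ?_⟩
          have hv : v = v 0 • (fun _ => (1 : ℂ)) := by funext i; fin_cases i; simp
          rw [hv, map_smul]
          fin_cases j
          simp [mul_comm]
        have e2 : ∀ c : ℂ, LinearMap.trace ℂ (Fin 1 → ℂ) (c • (1 : Module.End ℂ (Fin 1 → ℂ))) = c := by
          intro c
          rw [map_smul, LinearMap.trace_one, Module.finrank_fin_fun, Nat.cast_one, smul_eq_mul, mul_one]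
        obtain ⟨c, hc⟩ := e1 (σ g)
        obtain ⟨c', hc'⟩ := e1 (σ k)
        simp only [Representation.character, map_mul, hc, hc', smul_mul_assoc, one_mul, smul_smul, e2]
      have hxv := hx χ (hsupp χ hm0)
      have hval : (χ : G → ℂ) a = (χ : G → ℂ) 1 := by
        rw [← hσ, ← D.hxa, sq, hmul, hσ, hxv, ← hσ, char_one_eq, Nat.cast_one]
        rcases (short_vector hmo hmm le_rfl).1 χ with h | h | h
        · rw [h]; norm_num
        · exact absurd h hm0
        · rw [h]; norm_num
      exact hne (eq_oneIrr_of_apply_eq hgen hval)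
  exact hyp.false_of_nontrivial fun χ hne h => hne (eq_oneIrr_of_apply_eq hgen h)

end Main

end CfsgLib.ZStar
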