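import Cfsg.Agent.ZStar.Main
import Cfsg.Agent.ZStar.QuatEight

/-!
# The Z* theorem
-/

set_option autoImplicit false
set_option linter.style.haveILetI false
set_option linter.unusedSectionVars false

namespace CfsgLib.ZStar

open Cfsg

universe u

namespace QSylow

variable {G : Type u} [Group G] [Finite G] {a : G} (S : QSylow G a)

theorem not_eight_dvd (hn : S.n = 2) (g : G) : ¬ 8 ∣ orderOf g := by
  rintro ⟨k, hk⟩
  haveI : Fact (Nat.Prime 2) := ⟨Nat.prime_two⟩
  have hk0 : k ≠ 0 := by rintro rfl; have := orderOf_pos g; omega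
  have hu : orderOf (g ^ k) = 8 := by
    rw [orderOf_pow' _ hk0, hk, Nat.gcd_eq_right (dvd_mul_left k 8),
      Nat.mul_div_cancel _ (Nat.pos_of_ne_zero hk0)]
  have hu2 : IsPGroup 2 (Subgroup.zpowers (g ^ k)) :=
    IsPGroup.of_card (n := 3) (by rw [Nat.card_zpowers, hu]; norm_num)
  obtain ⟨T, hT⟩ := hu2.exists_le_sylow
  obtain ⟨t, ht⟩ := MulAction.exists_smul_eq G T S.P
  have hw : t * g ^ k * t⁻¹ ∈ S.P := by
    rw [← ht]; exact ⟨g ^ k, hT (Subgroup.mem_zpowers _), rfl⟩
  have hw8 : orderOf (t * g ^ k * t⁻¹) = 8 := (Invol.orderOf_conj_eq t _).trans hu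
  have hga : S.gen ^ 4 = 1 := by
    have h := pow_orderOf_eq_one S.gen
    rwa [S.hgen, hn] at h
  have h4 : (t * g ^ k * t⁻¹) ^ 4 = 1 := by
    by_cases hA : t * g ^ k * t⁻¹ ∈ Subgroup.zpowers S.gen
    · obtain ⟨i, hi⟩ := Subgroup.mem_zpowers_iff.1 hA
      rw [← hi, ← zpow_natCast, ← zpow_mul, mul_comm, zpow_mul, zpow_natCast, hga, one_zpow]
    · rw [show 4 = 2 * 2 from rfl, pow_mul, (S.hout _ hw hA).2]
      have h2 := congrArg (· ^ 2) S.hgena
      rw [hn, pow_one] at h2
      simp only [← pow_mul] at h2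
      rw [← h2]
      exact hga
  have h := orderOf_dvd_of_pow_eq_one h4
  rw [hw8] at h
  exact absurd h (by decide)

end QSylow

theorem uniqueCase : UniqueCase.{u} := by
  intro G _ _ a ha huniq hO hgen hnc
  classical
  haveI := Fintype.ofFinite G
  haveI : Fact (Nat.Prime 2) := ⟨Nat.prime_two⟩
  obtain ⟨S⟩ := exists_qsylow ha huniq hO hnc
  obtain ⟨b, D, hD, hD2, hodd⟩ := S.exists_qdata ha huniq
  by_cases hn : 2 < S.n
  · exact D.false_of_sq_ne_one ha hgen (hD hn)
  have hn2 : S.n = 2 := by have := S.hn; omega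
  obtain ⟨hρ2, hρx⟩ := hD2 hn2
  let E : Eight G a S.x b :=
    { D with
      hρ2 := hρ2
      hρx := hρx
      hodd := hodd
      hconj := fun y hy => S.isConj_x ha huniq hgen hn2 hy
      h8 := S.not_eight_dvd hn2
      hcard := by
        have h := S.P.card_eq_multiplicity
        rw [S.hcard, hn2] at h
        exact (Nat.pow_right_injective le_rfl h).symm }
  refine E.false_of_isolated ha hgen ?_
  have hle : (S.P : Subgroup G) ≤ Subgroup.centralizer ({a} : Set G) := fun g hg =>
    Subgroup.mem_centralizer_singleton_iff.2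
      (commute_of_mem_two_group ha huniq S.P.isPGroup' S.haP hg).eq.symm
  have h := Subgroup.card_dvd_of_le hle
  rwa [S.hcard, hn2] at h

/-- An isolated involution is central modulo a normal subgroup of odd order. -/
theorem zstar {G : Type u} [Group G] [Finite G] {a : G} (ha : IsIsolatedInvolution a) :
    Concl G a :=
  zstar_of_unique uniqueCase (Nat.card G) G rfl a ha

/-- The involutions commuting with a central involution of a group of 2-rank one. -/
theorem zstar_of_sylow {G : Type u} [Group G] [Finite G] (P : Sylow 2 G) {a : G}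
    (ha : orderOf a = 2) (h : ∀ g : G, g * a * g⁻¹ ∈ P → g * a * g⁻¹ = a) :
    Concl G a :=
  zstar (Invol.isolated_of_sylow P ha h)

end CfsgLib.ZStar
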