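import Cfsg.Agent.Blocks.Basic
import Cfsg.Agent.Blocks.Principal
import Cfsg.Agent.Char.Generalized
import Cfsg.Agent.Char.Kernel
import Cfsg.Agent.Invol.Isolated

/-!
# Character identities for an isolated involution

If `a` is isolated then the product of two conjugates of `a` has odd order, so a generalized
character `∑ m_χ χ` vanishing at elements of odd order satisfies `∑ m_χ χ(a)²/χ(1) = 0`.
-/

set_option autoImplicit false
set_option linter.style.haveILetI false
set_option linter.unusedSectionVars false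

namespace CfsgLib.ZStar

open Cfsg Finset CfsgLib.Block CfsgLib.Block.Chr CfsgLib.Char
open scoped ComplexConjugate

universe u

variable {G : Type u} [Group G] [Fintype G]

/-- An irreducible character not moved by a normally generating element is trivial. -/
theorem eq_oneIrr_of_apply_eq {a : G} (hgen : Subgroup.normalClosure ({a} : Set G) = ⊤)
    {χ : IrrCharacter G} (h : (χ : G → ℂ) a = (χ : G → ℂ) 1) : χ = oneIrr G := by
  classical
  obtain ⟨n, σ, hirr, hχ⟩ := χ.2
  have hval : σ.character a = (Module.finrank ℂ (Fin n → ℂ) : ℂ) := by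
    rw [hχ, h, ← hχ, char_one_eq, Module.finrank_fin_fun]
  have ha1 := Char.apply_eq_one_of_character_eq σ hval
  have hker : ∀ g : G, σ g = 1 := fun g =>
    MonoidHom.mem_ker.1 ((Subgroup.normalClosure_le_normal (N := MonoidHom.ker σ)
      (Set.singleton_subset_iff.2 (MonoidHom.mem_ker.2 ha1))) (hgen ▸ Subgroup.mem_top g))
  have hconst : ∀ g : G, (χ : G → ℂ) g = (χ : G → ℂ) 1 := fun g => by
    rw [← hχ]
    simp only [Representation.character]
    rw [hker g, hker 1]
  by_contra hne
  have h0 := classInner_irr χ (oneIrr G)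
  rw [if_neg hne, classInner, sum_congr rfl fun g _ => by
    rw [oneIrr_apply, map_one, mul_one, hconst g], sum_const, card_univ, nsmul_eq_mul,
    Nat.card_eq_fintype_card, ← mul_assoc,
    inv_mul_cancel₀ (Nat.cast_ne_zero.2 Fintype.card_ne_zero), one_mul] at h0
  exact irr_one_ne_zero χ h0

/-- The moment identity. -/
theorem sum_sq_div_eq_zero {a : G} (ha : IsIsolatedInvolution a) [Fintype (IrrCharacter G)]
    {f : G → ℂ} (hf : IsClassFunction G f) (h0 : ∀ g, Odd (orderOf g) → f g = 0) :
    ∑ χ : IrrCharacter G, classInner f (χ : G → ℂ) * (χ : G → ℂ) a ^ 2 / (χ : G → ℂ) 1 = 0 := by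
  classical
  set A : G → ℂ := fun x => if IsConj a x then 1 else 0 with hAdef
  have hA : IsClassFunction G A := fun x y => by
    have hxy : IsConj x (y * x * y⁻¹) := isConj_iff.2 ⟨y, rfl⟩
    exact if_congr ⟨fun h => h.trans hxy.symm, fun h => h.trans hxy⟩ rfl rfl
  have hodd : ∀ x : G, conv A A x ≠ 0 → Odd (orderOf x) := by
    intro x hx
    obtain ⟨g, -, hg⟩ := exists_ne_zero_of_sum_ne_zero hx
    have h1 : IsConj a g := by_contra fun h => hg (by rw [hAdef]; simp only; rw [if_neg h, zero_mul])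
    have h2 : IsConj a (g⁻¹ * x) :=
      by_contra fun h => hg (by rw [hAdef]; simp only; rw [if_neg h, mul_zero])
    obtain ⟨c, rfl⟩ := isConj_iff.1 h1
    obtain ⟨d, hd⟩ := isConj_iff.1 h2
    have e : x = c * (a * ((c⁻¹ * d) * a * (c⁻¹ * d)⁻¹)) * c⁻¹ := by
      rw [show x = c * a * c⁻¹ * ((c * a * c⁻¹)⁻¹ * x) by group, ← hd]
      group
    rw [e, Invol.orderOf_conj_eq]
    exact Invol.isolated_odd ha _
  have hzero : ∑ x : G, conv A A x * f x = 0 := sum_eq_zero fun x _ => by
    by_cases h : conv A A x = 0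
    · rw [h, zero_mul]
    · rw [h0 x (hodd x h), mul_zero]
  have hAval : ∀ χ : IrrCharacter G,
      ∑ x : G, A x * (χ : G → ℂ) x = ((univ.filter (IsConj a)).card : ℂ) * (χ : G → ℂ) a := by
    intro χ
    simp only [hAdef, ite_mul, one_mul, zero_mul]
    rw [← sum_filter, sum_congr rfl fun x hx => (IsClassFunction.apply_eq_of_isConj
      (isClassFunction_irr χ) (mem_filter.1 hx).2).symm, sum_const, nsmul_eq_mul]
  have hexp : ∀ x, f x = ∑ χ : IrrCharacter G, classInner f (χ : G → ℂ) * (χ : G → ℂ) x :=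
    fun x => classFun_expand hf x
  rw [sum_congr rfl fun x _ => by rw [hexp x, mul_sum], sum_comm] at hzero
  have hterm : ∀ χ : IrrCharacter G,
      ∑ x : G, conv A A x * (classInner f (χ : G → ℂ) * (χ : G → ℂ) x) =
        ((univ.filter (IsConj a)).card : ℂ) ^ 2 *
          (classInner f (χ : G → ℂ) * (χ : G → ℂ) a ^ 2 / (χ : G → ℂ) 1) := by
    intro χ
    have h1 := omega_conv χ hA A
    simp only [omega, hAval] at h1
    rw [div_eq_iff (irr_one_ne_zero χ)] at h1
    rw [sum_congr rfl fun x _ => mul_left_comm _ _ _, ← mul_sum, h1]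
    have := irr_one_ne_zero χ
    field_simp
  rw [sum_congr rfl fun χ _ => hterm χ, ← mul_sum] at hzero
  refine (mul_eq_zero.1 hzero).resolve_left (pow_ne_zero 2 ?_)
  exact_mod_cast (card_pos.2 ⟨a, mem_filter.2 ⟨mem_univ a, IsConj.refl a⟩⟩).ne'

/-- Coefficients of a generalized character. -/
theorem exists_coeff [Fintype (IrrCharacter G)] {f : G → ℂ} (hf : IsGeneralizedCharacter G f) :
    ∃ m : IrrCharacter G → ℤ, (∀ χ : IrrCharacter G, classInner f (χ : G → ℂ) = m χ) ∧
      ∀ x, f x = ∑ χ : IrrCharacter G, (m χ : ℂ) * (χ : G → ℂ) x := by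
  choose m hm using fun χ : IrrCharacter G => IsGeneralized.exists_classInner_eq_int hf
    (IsIrrCharacter.isGeneralized χ.2)
  refine ⟨m, hm, fun x => ?_⟩
  rw [classFun_expand (IsGeneralized.isClassFunction hf) x]
  exact sum_congr rfl fun χ _ => by rw [hm]

/-- The inner product in coordinates. -/
theorem classInner_coeff [Fintype (IrrCharacter G)] {f g : G → ℂ} {m k : IrrCharacter G → ℤ}
    (hf : ∀ x, f x = ∑ χ : IrrCharacter G, (m χ : ℂ) * (χ : G → ℂ) x)
    (hg : ∀ χ : IrrCharacter G, classInner g (χ : G → ℂ) = k χ) :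
    classInner f g = ((∑ χ, m χ * k χ : ℤ) : ℂ) := by
  have h : classInner f g =
      ∑ χ : IrrCharacter G, (m χ : ℂ) * classInner (χ : G → ℂ) g := by
    simp only [classInner, hf, sum_mul, mul_sum]
    rw [sum_comm]
    exact sum_congr rfl fun χ _ => sum_congr rfl fun x _ => by ring
  rw [h, Int.cast_sum]
  refine sum_congr rfl fun χ _ => ?_
  rw [← classInner_conj_symm, hg, Int.cast_mul, map_intCast]

/-- A short integer vector with an entry one has entries of absolute value at most one. -/
theorem short_vector {ι : Type*} [Fintype ι] [DecidableEq ι] {m : ι → ℤ} {i₀ : ι} {k : ℤ}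
    (h0 : m i₀ = 1) (h : ∑ i, m i * m i = k) (hk : k ≤ 4) :
    (∀ i, m i = -1 ∨ m i = 0 ∨ m i = 1) ∧ ((univ.filter fun i => m i ≠ 0).card : ℤ) = k := by
  have hb : ∀ i, m i = -1 ∨ m i = 0 ∨ m i = 1 := by
    intro i
    by_cases hi : i = i₀
    · exact Or.inr (Or.inr (hi ▸ h0))
    · have h1 : m i₀ * m i₀ + m i * m i ≤ k := by
        rw [← h, ← sum_pair (Ne.symm hi) (f := fun j => m j * m j)]
        exact sum_le_sum_of_subset_of_nonneg (subset_univ _) fun j _ _ => mul_self_nonneg _
      rw [h0] at h1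
      have : -1 ≤ m i ∧ m i ≤ 1 := ⟨by nlinarith, by nlinarith⟩
      omega
  refine ⟨hb, ?_⟩
  rw [← h, card_eq_sum_ones, sum_filter, Nat.cast_sum]
  refine sum_congr rfl fun i _ => ?_
  rcases hb i with h' | h' | h' <;> simp [h']

end CfsgLib.ZStar
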