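import Cfsg.Agent.ZStar.EightData
import Cfsg.Agent.Blocks.Integrality
import Cfsg.Agent.HeightExt.Block
import Cfsg.Agent.Char.Central

/-!
# Quaternion Sylow subgroup of order eight with a central involution

For class functions `d` with `d (a h) = d h` vanishing at elements of order divisible by four,
`2 * regPart d` has integral inner products with all characters when `d` is a generalized
character. A principal character trivial on `a` cannot vanish at `x`.
-/

set_option autoImplicit false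
set_option linter.style.haveILetI false
set_option linter.unusedSectionVars false

namespace CfsgLib.ZStar

open Cfsg Finset CfsgLib.Block CfsgLib.Block.Chr CfsgLib.Char
open scoped ComplexConjugate

universe u

variable {K : Type u} [Group K] [Fintype K]

/-- A central involution acts by a sign in every irreducible character. -/
theorem exists_central_sign {a : K} (ha : orderOf a = 2) (hc : ∀ h, Commute a h)
    (χ : IrrCharacter K) :
    ∃ ε : ℂ, (ε = 1 ∨ ε = -1) ∧ ∀ k : K, (χ : K → ℂ) (a * k) = ε * (χ : K → ℂ) k := by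
  obtain ⟨n, σ, hirr, hχ⟩ := χ.2
  haveI := hirr
  have hsc := Char.eq_smul_one_of_commute σ (σ a) fun g => by
    rw [← map_mul, ← map_mul, (hc g).eq]
  set ω := LinearMap.trace ℂ (Fin n → ℂ) (σ a) / (Module.finrank ℂ (Fin n → ℂ) : ℂ)
  have hval : ∀ k : K, (χ : K → ℂ) (a * k) = ω * (χ : K → ℂ) k := by
    intro k
    rw [← hχ]
    simp only [Representation.character, map_mul]
    rw [hsc, smul_mul_assoc, one_mul, map_smul, smul_eq_mul]
  refine ⟨ω, ?_, hval⟩
  have h1 := hval (a * 1)
  rw [hval 1, ← mul_assoc a a 1, Invol.mul_self_eq_one ha, one_mul, ← mul_assoc] at h1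
  have h2 : (1 : ℂ) * (χ : K → ℂ) 1 = ω * ω * (χ : K → ℂ) 1 := by rw [one_mul]; exact h1
  exact mul_self_eq_one_iff.1 (mul_right_cancel₀ (irr_one_ne_zero χ) h2).symm

namespace Eight

variable {a x b : K} (D : Eight K a x b)

include D

theorem odd_a_mul (hc : ∀ h, Commute a h) {h : K} (h4 : ¬ 4 ∣ orderOf h) (he : 2 ∣ orderOf h) :
    Odd (orderOf (a * h)) := by
  obtain ⟨m, hm⟩ := he
  have hmodd : Odd m := Nat.not_even_iff_odd.1 fun ⟨j, hj⟩ => h4 ⟨j, by omega⟩
  have hpow : h ^ m = a := by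
    refine D.huniq _ ?_ (hc _)
    rw [orderOf_pow, hm, Nat.gcd_eq_right (dvd_mul_left m 2), Nat.mul_div_cancel _ hmodd.pos]
  have h1 : (a * h) ^ m = 1 := by
    rw [(hc h).mul_pow, hpow]
    obtain ⟨j, hj⟩ := hmodd
    rw [hj, pow_succ, pow_mul, sq, Invol.mul_self_eq_one D.ha, one_pow, one_mul,
      Invol.mul_self_eq_one D.ha]
  exact hmodd.of_dvd_nat (orderOf_dvd_of_pow_eq_one h1)

theorem orderOf_a_mul (hc : ∀ h, Commute a h) {h : K} (ho : Odd (orderOf h)) :
    orderOf (a * h) = 2 * orderOf h := by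
  rw [(hc h).orderOf_mul_eq_mul_orderOf_of_coprime (by rw [D.ha]; exact Nat.coprime_two_left.2 ho),
    D.ha]

theorem not_four_dvd (hc : ∀ h, Commute a h) {h : K} (ho : Odd (orderOf h)) :
    ¬ 4 ∣ orderOf (a * h) := by
  rw [D.orderOf_a_mul hc ho]
  intro h4
  exact Nat.not_even_iff_odd.2 ho
    (even_iff_two_dvd.2 ((Nat.mul_dvd_mul_iff_left two_pos).1 (show 2 * 2 ∣ 2 * orderOf h from h4)))

/-- A class-type sum supported off the elements of order divisible by four is twice its regular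
half. -/
theorem sum_split (hc : ∀ h, Commute a h) (F : K → ℂ) (h0 : ∀ h, 4 ∣ orderOf h → F h = 0)
    (hinv : ∀ h, F (a * h) = F h) : ∑ h, F h = 2 * ∑ h, regPart 2 F h := by
  classical
  have hsplit : ∀ h, F h = regPart 2 F h + (if 2 ∣ orderOf h then F h else 0) := fun h => by
    by_cases h2 : 2 ∣ orderOf h
    · rw [regPart_of_dvd h2, if_pos h2, zero_add]
    · rw [regPart_of_not_dvd h2, if_neg h2, add_zero]
  have heq : ∑ h, (if 2 ∣ orderOf h then F h else 0) = ∑ h, regPart 2 F h := by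
    refine Fintype.sum_equiv (Equiv.mulLeft a) _ _ fun h => ?_
    show _ = regPart 2 F (a * h)
    by_cases h2 : 2 ∣ orderOf h
    · by_cases h4 : 4 ∣ orderOf h
      · rw [if_pos h2, h0 h h4, regPart]
        split_ifs
        · rfl
        · rw [hinv, h0 h h4]
      · rw [if_pos h2, regPart_of_not_dvd (fun hd =>
          Nat.not_even_iff_odd.2 (D.odd_a_mul hc h4 h2) (even_iff_two_dvd.2 hd)), hinv]
    · rw [if_neg h2, regPart_of_dvd]
      rw [D.orderOf_a_mul hc (Nat.not_even_iff_odd.1 fun he => h2 (even_iff_two_dvd.1 he))]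
      exact dvd_mul_right 2 _
  rw [sum_congr rfl fun h _ => hsplit h, sum_add_distrib, heq, two_mul]

theorem classInner_split (hc : ∀ h, Commute a h) (d e : K → ℂ)
    (h0 : ∀ h, 4 ∣ orderOf h → d h = 0) (hd : ∀ h, d (a * h) = d h)
    (he : ∀ h, e (a * h) = e h) :
    classInner d e = 2 * classInner (regPart 2 d) e := by
  have := D.sum_split hc (fun h => d h * conj (e h)) (fun h h4 => by rw [h0 h h4, zero_mul])
    (fun h => by rw [hd, he])
  simp only [classInner]
  rw [this, mul_left_comm]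
  congr 2
  refine sum_congr rfl fun h _ => ?_
  by_cases h2 : 2 ∣ orderOf h
  · rw [regPart_of_dvd h2, regPart_of_dvd h2, zero_mul]
  · rw [regPart_of_not_dvd h2, regPart_of_not_dvd h2]

variable {M : Ideal AlgInt} [M.IsPrime]

/-- The local integrality at two. -/
theorem two_reg_local (hM : IsPModular 2 M) (hc : ∀ h, Commute a h) {d : K → ℂ}
    (hdg : IsGeneralizedCharacter K d) (h0 : ∀ h, 4 ∣ orderOf h → d h = 0)
    (hd : ∀ h, d (a * h) = d h) (χ : IrrCharacter K) :
    MemLocalRing M (2 * classInner (regPart 2 d) (χ : K → ℂ)) := by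
  classical
  haveI : Fact (Nat.Prime 2) := ⟨Nat.prime_two⟩
  haveI : Fintype (ConjClasses K) := Fintype.ofFinite _
  set F : K → ℂ := fun h => regPart 2 d h * conj ((χ : K → ℂ) h) with hFdef
  have hF : IsClassFunction K F := fun g t => by
    have ho : orderOf (t * g * t⁻¹) = orderOf g := Invol.orderOf_conj_eq t g
    simp only [hFdef, regPart, ho, IsGeneralized.isClassFunction hdg g t,
      isClassFunction_irr χ g t]
  rw [classInner, sum_eq_sum_classes F hF, ← mul_assoc, mul_sum]
  refine memLocalRing_sum fun C _ => ?_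
  set y := C.out
  by_cases hy : 2 ∣ orderOf y
  · simp only [hFdef]
    rw [regPart_of_dvd hy, zero_mul, mul_zero, mul_zero]
    exact memLocalRing_zero
  simp only [hFdef]
  rw [regPart_of_not_dvd hy]
  set Cy := Subgroup.centralizer ({y} : Set K)
  obtain ⟨S⟩ : Nonempty (Sylow 2 Cy) := inferInstance
  let P := (S : Subgroup Cy).map Cy.subtype
  haveI : Fintype ↥P := Fintype.ofFinite _
  have hcardP : Nat.card P = Nat.card S := Subgroup.card_map_of_injective Cy.subtype_injective
  have hPc : ∀ u : ↥P, ∀ g, g = y → (u : K) * g = g * u := fun u g hg => by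
    obtain ⟨v, -, hv⟩ := Subgroup.mem_map.1 u.2
    rw [← hv, hg]
    exact Subgroup.mem_centralizer_singleton_iff.1 v.2
  have haP : a ∈ P := by
    have haC : a ∈ Cy := Subgroup.mem_centralizer_singleton_iff.2 (hc y).eq
    refine ⟨⟨a, haC⟩, ?_, rfl⟩
    have hA : IsPGroup 2 (Subgroup.zpowers (⟨a, haC⟩ : Cy)) :=
      IsPGroup.of_card (n := 1) (by rw [Nat.card_zpowers, ← Subgroup.orderOf_coe, D.ha, pow_one])
    haveI : (Subgroup.zpowers (⟨a, haC⟩ : Cy)).Normal := ⟨fun z hz t => by
      obtain ⟨i, rfl⟩ := Subgroup.mem_zpowers_iff.1 hz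
      have ht : Commute (⟨a, haC⟩ : Cy) t := Subtype.ext (hc (t : K))
      rw [← (ht.zpow_left i).eq, mul_inv_cancel_right]
      exact Subgroup.zpow_mem_zpowers _ i⟩
    obtain ⟨T, hT⟩ := hA.exists_le_sylow
    obtain ⟨t, ht⟩ := MulAction.exists_smul_eq Cy T S
    rw [← ht]
    refine ⟨_, hT (Subgroup.mem_zpowers (⟨a, haC⟩ : Cy)), ?_⟩
    have : Commute (⟨a, haC⟩ : Cy) t := Subtype.ext (hc (t : K))
    show t * ⟨a, haC⟩ * t⁻¹ = ⟨a, haC⟩
    rw [← this.eq, mul_inv_cancel_right]
  -- the average of `d` over `y P`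
  obtain ⟨d₁, d₂, hd₁, hd₂, rfl⟩ := hdg
  obtain ⟨n₁, σ₁, rfl⟩ := hd₁
  obtain ⟨n₂, σ₂, rfl⟩ := hd₂
  set dd : K → ℂ := σ₁.character - σ₂.character
  have hint : IsIntegral ℤ ((Fintype.card ↥P : ℂ)⁻¹ * ∑ u : ↥P, dd (y * u)) := by
    simp only [dd, Pi.sub_apply, sum_sub_distrib, mul_sub]
    exact (HeightExt.isIntegral_average σ₁ P y fun u hu => hPc ⟨u, hu⟩ y rfl).sub
      (HeightExt.isIntegral_average σ₂ P y fun u hu => hPc ⟨u, hu⟩ y rfl)
  have hyodd : Odd (orderOf y) := Nat.not_even_iff_odd.1 fun h => hy (even_iff_two_dvd.1 h)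
  have hvals : ∑ u : ↥P, dd (y * u) = 2 * dd y := by
    have hsub : ∀ u : ↥P, u ≠ 1 → u ≠ ⟨a, haP⟩ → dd (y * u) = 0 := by
      intro u h1 h2
      apply h0
      obtain ⟨k, hk⟩ := IsPGroup.iff_orderOf.1 (S.isPGroup'.map Cy.subtype) u
      rw [← Subgroup.orderOf_coe] at hk
      have hk2 : 2 ≤ k := by
        by_contra hlt
        interval_cases k
        · exact h1 (Subtype.ext (orderOf_eq_one_iff.1 (by rw [hk, pow_zero])))
        · exact h2 (Subtype.ext (D.huniq _ (by rw [hk, pow_one]) (hc _)))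
      have hcu : Commute y (u : K) := (hPc u y rfl).symm
      rw [hcu.orderOf_mul_eq_mul_orderOf_of_coprime (by
        rw [hk]; exact Nat.Coprime.pow_right k (Nat.coprime_two_right.2 hyodd)), hk]
      exact ((show 4 = 2 ^ 2 by norm_num) ▸ pow_dvd_pow 2 hk2 : 4 ∣ 2 ^ k).mul_left _
    rw [← sum_subset (subset_univ ({1, ⟨a, haP⟩} : Finset ↥P)) (fun u _ hu => by
      simp only [mem_insert, mem_singleton, not_or] at hu
      exact hsub u hu.1 hu.2), sum_pair (fun h => Invol.ne_one D.ha
        (congrArg Subtype.val h).symm)]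
    rw [OneMemClass.coe_one, mul_one, ← (hc y).eq, hd, two_mul]
  rw [hvals] at hint
  -- compare with the class size
  have hC0 : (Nat.card Cy : ℂ) ≠ 0 := Nat.cast_ne_zero.2 Nat.card_pos.ne'
  have hG : (Nat.card K : ℂ) = (Nat.card Cy : ℂ) * (Cy.index : ℂ) := by
    rw [← Nat.cast_mul, Subgroup.card_mul_index]
  have hS : (Nat.card Cy : ℂ) = (Fintype.card ↥P : ℂ) * ((S : Subgroup Cy).index : ℂ) := by
    rw [← Nat.card_eq_fintype_card, hcardP, ← Nat.cast_mul, Subgroup.card_mul_index]
  have key : 2 * (Nat.card K : ℂ)⁻¹ * ((Cy.index : ℂ) * (dd y * conj ((χ : K → ℂ) y))) =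
      ((Fintype.card ↥P : ℂ)⁻¹ * (2 * dd y)) * conj ((χ : K → ℂ) y) *
        ((S : Subgroup Cy).index : ℂ)⁻¹ := by
    have hi : (Cy.index : ℂ) ≠ 0 := Nat.cast_ne_zero.2 Subgroup.index_ne_zero_of_finite
    rw [hG, hS]
    field_simp
  rw [key]
  refine memLocalRing_mul (memLocalRing_mul (memLocalRing_of_isIntegral hint) ?_)
    (memLocalRing_natCast_inv hM S.not_dvd_index)
  rw [conj_irr]
  exact memLocalRing_of_isIntegral (IsCharacter.isIntegral (isCharacter_irr χ) _)

/-- `2 * regPart d` has integral inner products. -/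
theorem two_reg_int (hc : ∀ h, Commute a h) {d : K → ℂ}
    (hdg : IsGeneralizedCharacter K d) (h0 : ∀ h, 4 ∣ orderOf h → d h = 0)
    (hd : ∀ h, d (a * h) = d h) (χ : IrrCharacter K) :
    ∃ z : ℤ, 2 * classInner (regPart 2 d) (χ : K → ℂ) = (z : ℂ) := by
  classical
  letI := irrFintype (G := K)
  obtain ⟨m, hm, hexp⟩ := exists_coeff hdg
  have h8 : ∀ θ : IrrCharacter K, ∃ z : ℤ, (8 : ℂ) * classInner (regPart 2 (θ : K → ℂ)) (χ : K → ℂ) = z := by
    intro θ
    obtain ⟨z, hz⟩ := exists_int_regPart Nat.prime_two θ χ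
    rw [D.hcard] at hz
    refine ⟨(2 ^ (3 - (3 - (charDegree (θ : K → ℂ)).factorization 2)) : ℕ) * z, ?_⟩
    rw [Int.cast_mul, Int.cast_natCast, ← hz, ← mul_assoc, ← Nat.cast_mul, ← pow_add,
      show 3 - (3 - (charDegree (θ : K → ℂ)).factorization 2) +
        (3 - (charDegree (θ : K → ℂ)).factorization 2) = 3 by omega]
    norm_num
  choose z hz using h8
  have hlin : classInner (regPart 2 d) (χ : K → ℂ) =
      ∑ θ : IrrCharacter K, (m θ : ℂ) * classInner (regPart 2 (θ : K → ℂ)) (χ : K → ℂ) := by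
    simp only [classInner, mul_sum]
    rw [sum_comm]
    refine sum_congr rfl fun g _ => ?_
    by_cases hg : 2 ∣ orderOf g
    · simp [regPart_of_dvd hg]
    · simp only [regPart_of_not_dvd hg, hexp g, sum_mul, mul_sum]
      exact sum_congr rfl fun θ _ => by ring
  set Z : ℤ := ∑ θ, m θ * z θ
  have hZ : (4 : ℂ) * (2 * classInner (regPart 2 d) (χ : K → ℂ)) = (Z : ℂ) := by
    rw [hlin, ← mul_assoc, show (4 : ℂ) * 2 = 8 by norm_num, mul_sum, Int.cast_sum]
    exact sum_congr rfl fun θ _ => by rw [Int.cast_mul, ← hz θ]; ring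
  have hZint : IsIntegral ℤ (Z : ℂ) := by
    simpa using (isIntegral_algebraMap (R := ℤ) (A := ℂ) (x := Z))
  have hint : IsIntegral ℤ (2 * classInner (regPart 2 d) (χ : K → ℂ)) := by
    refine isIntegral_of_local (n := 4) (by norm_num) ?_ fun q N hN => ?_
    · rw [Nat.cast_ofNat, hZ]; exact hZint
    · haveI := hN.2.1.isPrime
      by_cases hq : q = 2
      · subst hq; exact D.two_reg_local hN hc hdg h0 hd χ
      · have h4 : ¬ q ∣ 4 := fun h => hq ((Nat.prime_dvd_prime_iff_eq hN.1 Nat.prime_two).1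
          (hN.1.dvd_of_dvd_pow (show q ∣ 2 ^ 2 from h)))
        have : 2 * classInner (regPart 2 d) (χ : K → ℂ) = ((4 : ℕ) : ℂ)⁻¹ * (Z : ℂ) := by
          rw [← hZ]; push_cast; ring
        rw [this]
        exact memLocalRing_mul (memLocalRing_natCast_inv hN h4) (memLocalRing_of_isIntegral hZint)
  obtain ⟨n, hn, -⟩ := exists_int_of_isIntegral_rat ((Z : ℚ) / 4) hint (by
    push_cast; rw [← hZ]; ring)
  exact ⟨n, hn⟩

/-- A principal character trivial on `a` does not vanish at `x`. -/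
theorem principal_even_apply_ne_zero (hM : IsPModular 2 M) (hc : ∀ h, Commute a h)
    {χ : IrrCharacter K} (hχ : χ ∈ principalBlock M K)
    (heven : ∀ h, (χ : K → ℂ) (a * h) = (χ : K → ℂ) h) : (χ : K → ℂ) x ≠ 0 := by
  classical
  haveI : Fact (Nat.Prime 2) := ⟨Nat.prime_two⟩
  intro hx0
  have h0 : ∀ h, 4 ∣ orderOf h → (χ : K → ℂ) h = 0 := fun h h4 => by
    rw [D.principal_const hM hχ h4, hx0]
  have hne : χ ≠ oneIrr K := fun h => by
    rw [h, oneIrr_apply] at hx0; exact one_ne_zero hx0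
  have hself : classInner (χ : K → ℂ) (χ : K → ℂ) = 2 * classInner (regPart 2 (χ : K → ℂ)) (χ : K → ℂ) :=
    D.classInner_split hc _ _ h0 heven heven
  have hone : classInner (χ : K → ℂ) (fun _ => 1) =
      2 * classInner (regPart 2 (χ : K → ℂ)) (fun _ => 1) :=
    D.classInner_split hc _ _ h0 heven fun _ => rfl
  rw [classInner_irr, if_pos rfl] at hself
  rw [← oneIrr_coe, classInner_irr, if_neg hne, oneIrr_coe] at hone
  set f : K → ℂ := regPart 2 fun g => conj ((χ : K → ℂ) g)
  have hf : IsIntClass M f := by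
    refine ⟨fun g t => ?_, fun g => ?_⟩
    · have ho : orderOf (t * g * t⁻¹) = orderOf g := Invol.orderOf_conj_eq t g
      simp only [f, regPart, ho, isClassFunction_irr χ g t]
    · simp only [f, regPart]
      split_ifs
      · exact memLocalRing_zero
      · rw [conj_irr]; exact irr_mem χ _
  have homega : ∀ θ : IrrCharacter K, omega (θ : K → ℂ) f =
      (Nat.card K : ℂ) * classInner (regPart 2 (θ : K → ℂ)) (χ : K → ℂ) / (θ : K → ℂ) 1 := by
    intro θ
    rw [omega, classInner, ← mul_assoc, mul_inv_cancel₀ (Nat.cast_ne_zero.2 Nat.card_pos.ne'), one_mul]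
    congr 1
    refine sum_congr rfl fun g _ => ?_
    by_cases hg : 2 ∣ orderOf g <;> simp [f, regPart, hg, mul_comm]
  have h1 : omega (oneIrr K : K → ℂ) f = 0 := by
    have e : classInner (regPart 2 (oneIrr K : K → ℂ)) (χ : K → ℂ) =
        conj (classInner (regPart 2 (χ : K → ℂ)) (fun _ => 1)) := by
      rw [classInner_conj_symm, oneIrr_coe]
      simp only [classInner]
      congr 1
      refine sum_congr rfl fun g _ => ?_
      by_cases hg : 2 ∣ orderOf g <;> simp [regPart, hg]
    rw [homega, e, (mul_eq_zero.1 hone.symm).resolve_left two_ne_zero, map_zero, mul_zero, zero_div]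
  have hsb : SameBlock M (oneIrr K : K → ℂ) (χ : K → ℂ) := hχ
  have hcong := omega_cong hsb hf
  rw [h1, zero_sub] at hcong
  have hI : MemLocalIdeal M (omega (χ : K → ℂ) f) := by simpa using memLocalIdeal_neg hcong
  -- four divides the degree
  obtain ⟨S⟩ : Nonempty (Sylow 2 K) := inferInstance
  obtain ⟨n, σ, hirr, hσ⟩ := χ.2
  haveI : Fintype ↥(S : Subgroup K) := Fintype.ofFinite _
  have hcardS : Fintype.card ↥(S : Subgroup K) = 8 := by
    rw [← Nat.card_eq_fintype_card, S.card_eq_multiplicity, D.hcard]; norm_num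
  have hav := HeightExt.isIntegral_average σ (S : Subgroup K) 1 fun d _ => by rw [mul_one, one_mul]
  simp only [one_mul] at hav
  rw [hσ] at hav
  have haS : a ∈ (S : Subgroup K) := by
    have hA : IsPGroup 2 (Subgroup.zpowers a) :=
      IsPGroup.of_card (n := 1) (by rw [Nat.card_zpowers, D.ha, pow_one])
    obtain ⟨T, hT⟩ := hA.exists_le_sylow
    obtain ⟨t, ht⟩ := MulAction.exists_smul_eq K T S
    rw [← ht]
    refine ⟨a, hT (Subgroup.mem_zpowers a), ?_⟩
    show t * a * t⁻¹ = a
    rw [← (hc t).eq, mul_inv_cancel_right]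
  have hsum : ∑ u : ↥(S : Subgroup K), (χ : K → ℂ) u = 2 * (χ : K → ℂ) 1 := by
    rw [← sum_subset (subset_univ ({1, ⟨a, haS⟩} : Finset ↥(S : Subgroup K))) (fun u _ hu => by
      simp only [mem_insert, mem_singleton, not_or] at hu
      apply h0
      obtain ⟨k, hk⟩ := IsPGroup.iff_orderOf.1 S.isPGroup' u
      rw [← Subgroup.orderOf_coe] at hk
      have hk2 : 2 ≤ k := by
        by_contra hlt
        interval_cases k
        · exact hu.1 (Subtype.ext (orderOf_eq_one_iff.1 (by rw [hk, pow_zero])))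
        · exact hu.2 (Subtype.ext (D.huniq _ (by rw [hk, pow_one]) (hc _)))
      rw [hk]; exact (show 4 = 2 ^ 2 by norm_num) ▸ pow_dvd_pow 2 hk2),
      sum_pair (fun h => Invol.ne_one D.ha (congrArg Subtype.val h).symm),
      OneMemClass.coe_one]
    have := heven 1
    rw [mul_one] at this
    rw [this, two_mul]
  rw [hsum, hcardS, (irr_one χ).1] at hav
  have h4 : 4 ∣ charDegree (χ : K → ℂ) := by
    refine dvd_of_isIntegral_div (by norm_num) ?_
    convert hav using 1
    push_cast; ring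
  obtain ⟨k, hk⟩ := h4
  -- so the order would be even further
  have e1 := Nat.ordProj_mul_ordCompl_eq_self (Nat.card K) 2
  rw [D.hcard] at e1
  have hm' : ¬ 2 ∣ Nat.card K / 2 ^ 3 := by
    have := Nat.not_dvd_ordCompl Nat.prime_two (Nat.card_pos (α := K)).ne'
    rwa [D.hcard] at this
  set m' := Nat.card K / 2 ^ 3
  have hk0 : (k : ℂ) ≠ 0 := by
    have := (irr_one χ).2
    exact Nat.cast_ne_zero.2 fun h => by rw [hk, h] at this; simp at this
  have hwk : (m' : ℂ) = (k : ℂ) * omega (χ : K → ℂ) f := by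
    rw [homega, (irr_one χ).1, hk, ← e1]
    have h3 : classInner (regPart 2 (χ : K → ℂ)) (χ : K → ℂ) = 1 / 2 := by
      linear_combination -(1 / 2 : ℂ) * hself
    rw [h3]
    push_cast
    field_simp
    ring
  exact hm' ((memLocalIdeal_natCast_iff hM).1 (hwk ▸
    memLocalIdeal_mul_left (natCast_mem_localRing k) hI))

end Eight

end CfsgLib.ZStar
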