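import Cfsg.Agent.ZStar.Quaternion
import Cfsg.Agent.Blocks.LocalPrincipal
import Cfsg.Agent.Blocks.TraceFormula

/-!
# Quaternion Sylow subgroup of order eight: the four principal characters of odd value

All elements of order four are conjugate to `x`; the induced function `ψ = Ind (1 - ρ)` takes the
value four at the elements of order divisible by four and is zero elsewhere, and by block
orthogonality `ψ = ∑ χ(x) χ` over the principal block.
-/

set_option autoImplicit false
set_option linter.style.haveILetI false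
set_option linter.unusedSectionVars false

namespace CfsgLib.ZStar

open Cfsg Finset CfsgLib.Block CfsgLib.Block.Chr CfsgLib.Char
open scoped ComplexConjugate

universe u

/-- The data for the quaternion group of order eight. -/
structure Eight (G : Type u) [Group G] (a x b : G) : Type u extends QData G a x b where
  hρ2 : ∀ c, ρ c * ρ c = 1
  hρx : ∀ c : Subgroup.centralizer ({x} : Set G), (c : G) = x → ρ c ≠ 1
  hodd : ∀ c d : Subgroup.centralizer ({x} : Set G), Odd (orderOf c) → Odd (orderOf d) →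
    Odd (orderOf (c * d))
  hconj : ∀ y : G, orderOf y = 4 → IsConj x y
  h8 : ∀ g : G, ¬ 8 ∣ orderOf g
  hcard : (Nat.card G).factorization 2 = 3

namespace QSylow

variable {G : Type u} [Group G] [Finite G] {a : G} (S : QSylow G a)

open Subgroup in
/-- Fusion: when the normal closure of `a` is the whole group all elements of order four are
conjugate. -/
theorem isConj_x (ha : IsIsolatedInvolution a)
    (huniq : ∀ v : G, orderOf v = 2 → Commute a v → v = a) (hgen : normalClosure ({a} : Set G) = ⊤)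
    (hn : S.n = 2) {y : G} (hy : orderOf y = 4) : IsConj S.x y := by
  classical
  haveI : Fact (Nat.Prime 2) := ⟨Nat.prime_two⟩
  obtain ⟨b, hb, hbg⟩ := S.exists_outside
  have hinA : ∀ w ∈ zpowers S.gen, orderOf w = 4 → IsConj S.x w := by
    intro w hw hw4
    rw [← S.x_eq_of_two hn, mem_zpowers_iff] at hw
    obtain ⟨i, hi⟩ := hw
    have hmod : S.x ^ i = S.x ^ (i % 4) := by
      conv_lhs => rw [← zpow_mod_orderOf, S.orderOf_x]
      norm_num
    rw [hmod] at hi
    have h0 : 0 ≤ i % 4 ∧ i % 4 < 4 := ⟨Int.emod_nonneg _ (by norm_num), Int.emod_lt_of_pos _ (by norm_num)⟩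
    have hcases : i % 4 = 0 ∨ i % 4 = 1 ∨ i % 4 = 2 ∨ i % 4 = 3 := by omega
    rcases hcases with h | h | h | h <;> rw [h] at hi
    · rw [zpow_zero] at hi; rw [← hi, orderOf_one] at hw4; omega
    · rw [zpow_one] at hi; rw [hi]
    · rw [zpow_two, ← sq, S.x_sq] at hi; rw [← hi, ha.1] at hw4; omega
    · refine isConj_iff.2 ⟨b, ?_⟩
      rw [S.conj_x hb hbg, ← hi]
      refine inv_eq_of_mul_eq_one_right ?_
      have h4 := pow_orderOf_eq_one S.x
      rw [S.orderOf_x] at h4
      rw [← zpow_one_add, show (1 : ℤ) + 3 = ((4 : ℕ) : ℤ) by norm_num, zpow_natCast, h4]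
  have hy4 : IsPGroup 2 (zpowers y) :=
    IsPGroup.of_card (n := 2) (by rw [Nat.card_zpowers, hy]; norm_num)
  obtain ⟨T, hT⟩ := hy4.exists_le_sylow
  obtain ⟨g, hg⟩ := MulAction.exists_smul_eq G T S.P
  have hw : g * y * g⁻¹ ∈ S.P := by
    rw [← hg]; exact ⟨y, hT (mem_zpowers y), rfl⟩
  set w := g * y * g⁻¹ with hwdef
  have hw4 : orderOf w = 4 := (Invol.orderOf_conj_eq g y).trans hy
  have hyw : IsConj y w := isConj_iff.2 ⟨g, rfl⟩
  by_cases hwA : w ∈ zpowers S.gen
  · exact (hinA w hwA hw4).trans hyw.symm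
  by_contra hcon
  have hno : ∀ h : G, h⁻¹ * w * h ∈ S.P → h⁻¹ * w * h ∉ zpowers S.gen := by
    intro h _ hmem
    refine hcon (((hinA _ hmem ?_).trans ?_).trans hyw.symm)
    · rw [show h⁻¹ * w * h = h⁻¹ * w * h⁻¹⁻¹ by rw [inv_inv], Invol.orderOf_conj_eq, hw4]
    · exact isConj_iff.2 ⟨h, by group⟩
  set A := (zpowers S.gen).subgroupOf (S.P : Subgroup G)
  have hAidx : A.index = 2 := by
    have h1 := A.card_mul_index
    rw [Nat.card_congr (subgroupOfEquivOfLe (zpowers_le.2 S.hgenP)).toEquiv, Nat.card_zpowers,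
      S.hgen, S.hcard, hn] at h1
    norm_num at h1
    omega
  let ϕ : (S.P : Subgroup G) →* ℤˣ :=
    { toFun := fun w => if w ∈ A then 1 else -1
      map_one' := if_pos (one_mem A)
      map_mul' := fun u v => by
        have h1 := Subgroup.mul_mem_iff_of_index_two hAidx (a := u) (b := v)
        by_cases hu : u ∈ A <;> by_cases hv : v ∈ A <;> simp [hu, hv] at h1 <;> simp [hu, hv, h1] }
  have htriv : ∀ h : G, MonoidHom.transfer ϕ h = 1 := by
    have hle : normalClosure ({a} : Set G) ≤ (MonoidHom.transfer ϕ).ker := by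
      refine normalClosure_le_normal (Set.singleton_subset_iff.2 (MonoidHom.mem_ker.2 ?_))
      rw [show MonoidHom.transfer ϕ a = MonoidHom.transfer ϕ S.x ^ 2 from
        (congrArg (MonoidHom.transfer ϕ) S.x_sq.symm).trans (map_pow _ _ _), Int.units_sq]
    intro h
    exact MonoidHom.mem_ker.1 (hle (hgen ▸ mem_top h))
  have h1 := htriv w
  letI := (S.P : Subgroup G).fintypeQuotientOfFiniteIndex
  rw [MonoidHom.transfer_eq_prod_quotient_orbitRel_zpowers_quot] at h1
  have hfac : ∀ q : Quotient (MulAction.orbitRel (zpowers w) (G ⧸ (S.P : Subgroup G))),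
      ϕ ⟨q.out.out⁻¹ * w ^ Function.minimalPeriod (w • ·) q.out * q.out.out,
        QuotientGroup.out_conj_pow_minimalPeriod_mem (S.P : Subgroup G) w q.out⟩ =
      (-1 : ℤˣ) ^ Function.minimalPeriod (w • ·) q.out := by
    intro q
    have hmem := QuotientGroup.out_conj_pow_minimalPeriod_mem (S.P : Subgroup G) w q.out
    have hper : Function.minimalPeriod (w • ·) q.out ∣ 4 := by
      apply Function.IsPeriodicPt.minimalPeriod_dvd
      show ((w • ·)^[4]) q.out = q.out
      rw [smul_iterate]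
      have h4 := pow_orderOf_eq_one w
      rw [hw4] at h4
      show w ^ 4 • q.out = q.out
      rw [h4, one_smul]
    show (if _ ∈ A then (1 : ℤˣ) else -1) = _
    simp only [A, mem_subgroupOf]
    obtain ⟨k, hk, hkeq⟩ := (Nat.dvd_prime_pow Nat.prime_two (m := 2)).1 (by norm_num; exact hper)
    rw [hkeq] at hmem ⊢
    generalize q.out.out = h at hmem ⊢
    interval_cases k
    · rw [pow_zero, pow_one] at hmem ⊢
      rw [if_neg (hno h hmem), pow_one]
    · rw [pow_one] at hmem ⊢
      have hw2 : w ^ 2 = a := (S.hout w hw hwA).2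
      rw [hw2] at hmem ⊢
      have hc : h⁻¹ * a * h = a := by
        have h2 := ha.2 h⁻¹ (by
          rw [inv_inv]
          exact commute_of_mem_two_group ha huniq S.P.isPGroup' S.haP hmem)
        rwa [inv_inv] at h2
      rw [hc, if_pos ?_, Int.units_sq]
      have h3 := pow_mem (mem_zpowers S.gen) (2 ^ (S.n - 1))
      simp only [S.hgena] at h3
      exact h3
    · have h4 := pow_orderOf_eq_one w
      rw [hw4] at h4
      rw [show (2 : ℕ) ^ 2 = 4 by norm_num, h4, mul_one, inv_mul_cancel,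
        if_pos (one_mem _), show (4 : ℕ) = 2 * 2 by norm_num, pow_mul, Int.units_sq]
  rw [prod_congr rfl fun q _ => hfac q, prod_pow_eq_pow_sum] at h1
  rw [← Subgroup.index_eq_sum_minimalPeriod (S.P : Subgroup G) w] at h1
  have hodd : Odd (S.P : Subgroup G).index :=
    Nat.not_even_iff_odd.1 fun h => S.P.not_dvd_index (even_iff_two_dvd.1 h)
  rw [hodd.neg_one_pow] at h1
  exact absurd h1 (by decide)

end QSylow

namespace Eight

variable {G : Type u} [Group G] {a x b : G} (D : Eight G a x b)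

include D

theorem a_eq_x_sq : a = x ^ 2 := D.hxa.symm

theorem mem_x : x ∈ Subgroup.centralizer ({x} : Set G) := Subgroup.mem_centralizer_singleton_iff.2 rfl

/-- The odd elements of `C(x)` form a normal subgroup of odd order. -/
theorem mem_core [Finite G] {o : G} (hc : Commute x o) (ho : Odd (orderOf o)) :
    o ∈ centralizerPPrimeCore 2 x := by
  let N : Subgroup (Subgroup.centralizer ({x} : Set G)) :=
    { carrier := {c | Odd (orderOf c)}
      one_mem' := by simp only [Set.mem_setOf_eq, orderOf_one]; exact odd_one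
      mul_mem' := fun {c d} hc hd => D.hodd c d hc hd
      inv_mem' := fun {c} hc => by simpa only [Set.mem_setOf_eq, orderOf_inv] using hc }
  haveI hN : N.Normal := ⟨fun c (hc : Odd (orderOf c)) g => show Odd (orderOf (g * c * g⁻¹)) by
    rwa [Invol.orderOf_conj_eq]⟩
  have hcard : (Nat.card N).Coprime 2 := by
    refine Nat.coprime_two_right.2 (Nat.not_even_iff_odd.1 fun he => ?_)
    haveI : Fact (Nat.Prime 2) := ⟨Nat.prime_two⟩
    obtain ⟨⟨v, hv⟩, hvo⟩ := exists_prime_orderOf_dvd_card' 2 (even_iff_two_dvd.1 he : 2 ∣ Nat.card N)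
    rw [← Subgroup.orderOf_coe] at hvo
    have hv' : Odd (orderOf v) := hv
    rw [show orderOf v = 2 from hvo] at hv'
    exact absurd hv' (by decide)
  refine ⟨⟨o, Subgroup.mem_centralizer_singleton_iff.2 hc.eq.symm⟩,
    CfsgLib.Solvable.le_pPrimeCore 2 hN hcard ?_, rfl⟩
  show Odd (orderOf (⟨o, _⟩ : Subgroup.centralizer ({x} : Set G)))
  rwa [← Subgroup.orderOf_coe]

/-- The two-part of an element of order divisible by four is conjugate to `x`. -/
theorem exists_part [Finite G] {g : G} (hg : 4 ∣ orderOf g) :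
    ∃ o : G, Commute x o ∧ Odd (orderOf o) ∧ IsConj g (x * o) := by
  classical
  haveI := Fintype.ofFinite G
  obtain ⟨u, y, hg', hc, -, -, -, hy, ⟨k, hk⟩, -, -⟩ := exists_pPart Nat.prime_two g
  have hyodd : Odd (orderOf y) := Nat.not_even_iff_odd.1 fun h => hy (even_iff_two_dvd.1 h)
  have hcop : (orderOf u).Coprime (orderOf y) := by
    rw [hk]; exact Nat.Coprime.pow_left k (Nat.coprime_two_left.2 hyodd)
  have hord : orderOf g = 2 ^ k * orderOf y := by
    rw [← hg', hc.orderOf_mul_eq_mul_orderOf_of_coprime hcop, hk]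
  have h2 : 2 ≤ k := by
    by_contra hlt
    have h1 : 4 ∣ 2 ^ k := by
      refine Nat.Coprime.dvd_of_dvd_mul_right (n := orderOf y) ?_ (hord ▸ hg)
      rw [show (4 : ℕ) = 2 ^ 2 by norm_num]
      exact Nat.Coprime.pow_left 2 (Nat.coprime_two_left.2 hyodd)
    have h3 : 2 ^ k ≤ 2 ^ 1 := Nat.pow_le_pow_right two_pos (by omega)
    have := Nat.le_of_dvd (Nat.two_pow_pos k) h1
    omega
  have h3 : k ≤ 2 := by
    by_contra hlt
    exact D.h8 u (hk ▸ (pow_dvd_pow 2 (show 3 ≤ k by omega) : (2 : ℕ) ^ 3 ∣ _))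
  obtain rfl : k = 2 := by omega
  obtain ⟨t, ht⟩ := isConj_iff.1 (D.hconj u (by rw [hk]; norm_num))
  refine ⟨t⁻¹ * y * t, ?_, ?_, isConj_iff.2 ⟨t⁻¹, ?_⟩⟩
  · have h1 := hc.map (MulAut.conj t⁻¹).toMonoidHom
    simp only [MulEquiv.coe_toMonoidHom, MulAut.conj_apply, inv_inv] at h1
    rwa [show t⁻¹ * u * t = x by rw [← ht]; group] at h1
  · rwa [show t⁻¹ * y * t = t⁻¹ * y * t⁻¹⁻¹ by rw [inv_inv], Invol.orderOf_conj_eq]
  · rw [← hg', ← ht]; group

theorem orderOf_x_mul [Finite G] {o : G} (hc : Commute x o) (ho : Odd (orderOf o)) :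
    4 ∣ orderOf (x * o) := by
  rw [hc.orderOf_mul_eq_mul_orderOf_of_coprime (by
    rw [D.hx, show (4 : ℕ) = 2 ^ 2 by norm_num]
    exact Nat.Coprime.pow_left 2 (Nat.coprime_two_left.2 ho)), D.hx]
  exact dvd_mul_right 4 _

variable [Fintype G]

theorem psi_four {g : G} (hg : 4 ∣ orderOf g) : D.psi g = 4 := by
  obtain ⟨o, hc, ho, hconj⟩ := D.exists_part hg
  rw [IsClassFunction.apply_eq_of_isConj
    (IsGeneralized.isClassFunction D.isGeneralized_psi) hconj]
  set cx : Subgroup.centralizer ({x} : Set G) := ⟨x, D.mem_x⟩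
  set co : Subgroup.centralizer ({x} : Set G) :=
    ⟨o, Subgroup.mem_centralizer_singleton_iff.2 hc.eq.symm⟩
  have hco : D.ρ co = 1 := by
    by_contra h
    have h4 := D.four_dvd_of_ne h
    exact absurd (Odd.of_dvd_nat ho h4) (by decide)
  have hcx : ((D.ρ cx : ℂˣ) : ℂ) = -1 := by
    have h2 : ((D.ρ cx : ℂˣ) : ℂ) * ((D.ρ cx : ℂˣ) : ℂ) = 1 := by
      rw [← Units.val_mul, D.hρ2, Units.val_one]
    rcases mul_self_eq_one_iff.1 h2 with h | h
    · exact absurd (Units.ext h) (D.hρx cx rfl)
    · exact h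
  have hne : D.ρ (cx * co) ≠ 1 := by rw [map_mul, hco, mul_one]; exact D.hρx cx rfl
  have h := D.psi_apply hne
  rw [map_mul, hco, mul_one] at h
  rw [show x * o = ((cx * co : Subgroup.centralizer ({x} : Set G)) : G) from rfl, h,
    Units.val_inv_eq_inv_val, hcx]
  norm_num

theorem psi_self : classInner D.psi D.psi = 4 := by
  have h : classInner D.psi D.psi = 4 * classInner D.psi (fun _ => 1) := by
    simp only [classInner, map_one, mul_one]
    rw [← mul_assoc, mul_comm (4 : ℂ), mul_assoc, mul_sum]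
    rw [mul_sum univ _ (4 : ℂ), mul_sum]
    refine sum_congr rfl fun g _ => ?_
    by_cases hg : 4 ∣ orderOf g
    · rw [D.psi_four hg, map_ofNat]
    · rw [D.psi_eq_zero hg]; simp
  rw [h, D.classInner_psi_one, mul_one]

variable {M : Ideal AlgInt} [M.IsPrime]

/-- Principal characters are constant on the section of `x`. -/
theorem principal_const (hM : IsPModular 2 M) {χ : IrrCharacter G} (hχ : χ ∈ principalBlock M G)
    {g : G} (hg : 4 ∣ orderOf g) : (χ : G → ℂ) g = (χ : G → ℂ) x := by
  obtain ⟨o, hc, ho, hconj⟩ := D.exists_part hg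
  rw [IsClassFunction.apply_eq_of_isConj (isClassFunction_irr χ) hconj,
    principal_apply_mul_core hM (k := 2) (by rw [D.hx]; norm_num) (D.mem_core hc ho) hχ]

theorem classInner_psi_mem (hM : IsPModular 2 M) {χ : IrrCharacter G}
    (hχ : χ ∈ principalBlock M G) :
    classInner D.psi (χ : G → ℂ) = conj ((χ : G → ℂ) x) := by
  have h : classInner D.psi (χ : G → ℂ) =
      classInner D.psi (fun _ => 1) * conj ((χ : G → ℂ) x) := by
    simp only [classInner, map_one, mul_one]
    rw [mul_assoc, sum_mul]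
    congr 1
    refine sum_congr rfl fun g _ => ?_
    by_cases hg : 4 ∣ orderOf g
    · rw [D.principal_const hM hχ hg]
    · rw [D.psi_eq_zero hg, zero_mul, zero_mul]
  rw [h, D.classInner_psi_one, one_mul]

theorem classInner_psi_not_mem (hM : IsPModular 2 M) {χ : IrrCharacter G}
    (hχ : χ ∉ principalBlock M G) : classInner D.psi (χ : G → ℂ) = 0 := by
  classical
  letI := irrFintype (G := G)
  set S := univ.filter (· ∈ principalBlock M G)
  set F : G → ℂ := fun g => ∑ ξ ∈ S, conj ((ξ : G → ℂ) x) * (ξ : G → ℂ) g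
  set K : ℂ := ∑ ξ ∈ S, conj ((ξ : G → ℂ) x) * (ξ : G → ℂ) x
  have hF : F = (K / 4) • D.psi := by
    funext g
    by_cases hg : 4 ∣ orderOf g
    · rw [Pi.smul_apply, D.psi_four hg, smul_eq_mul, div_mul_cancel₀ _ (by norm_num : (4 : ℂ) ≠ 0)]
      exact sum_congr rfl fun ξ hξ => by rw [D.principal_const hM (mem_filter.1 hξ).2 hg]
    · rw [Pi.smul_apply, D.psi_eq_zero hg, smul_zero]
      obtain ⟨u, y, hg', hc, -, -, -, hy, hk, -, -⟩ := exists_pPart Nat.prime_two g
      have hnc : ¬ IsConj u x := by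
        intro h
        apply hg
        obtain ⟨t, ht⟩ := isConj_iff.1 h
        have hu : orderOf u = 4 := by
          rw [← Invol.orderOf_conj_eq t u, ht, D.hx]
        have hyodd : Odd (orderOf y) := Nat.not_even_iff_odd.1 fun h => hy (even_iff_two_dvd.1 h)
        rw [← hg', hc.orderOf_mul_eq_mul_orderOf_of_coprime (by
          rw [hu, show (4 : ℕ) = 2 ^ 2 by norm_num]
          exact Nat.Coprime.pow_left 2 (Nat.coprime_two_left.2 hyodd)), hu]
        exact dvd_mul_right 4 _
      have horth := block_orth hM (isIntClass_blockCoeff (isPBlock_principalBlock (M := M) (G := G)))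
        (g := g) (h := x) (x := u) (y := x) ⟨y, hg', hc, hk, hy⟩
        ⟨1, mul_one x, Commute.one_right x, ⟨2, by rw [D.hx]; norm_num⟩,
          by rw [orderOf_one]; decide⟩ hnc
      rw [← horth]
      exact sum_congr rfl fun ξ _ => mul_comm _ _
  have hinner : ∀ ξ : IrrCharacter G, classInner F (ξ : G → ℂ) =
      if ξ ∈ S then conj ((ξ : G → ℂ) x) else 0 := by
    intro ξ
    have : classInner F (ξ : G → ℂ) =
        ∑ η ∈ S, conj ((η : G → ℂ) x) * classInner (η : G → ℂ) (ξ : G → ℂ) := by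
      simp only [F, classInner, sum_mul, mul_sum]
      rw [sum_comm]
      exact sum_congr rfl fun η _ => sum_congr rfl fun g _ => by ring
    rw [this]
    simp only [classInner_irr, mul_ite, mul_one, mul_zero, sum_ite_eq']
  have h1 := hinner (oneIrr G)
  rw [hF, classInner_smul_left, oneIrr_coe, D.classInner_psi_one, mul_one,
    if_pos (mem_filter.2 ⟨mem_univ _, oneIrr_mem_principalBlock⟩), map_one] at h1
  have h2 := hinner χ
  rw [hF, classInner_smul_left, h1, one_mul,
    if_neg (fun h => hχ (mem_filter.1 h).2)] at h2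
  exact h2

/-- The coefficients of `ψ`: integers `χ(x)` on the principal block, with square sum four. -/
theorem exists_four (hM : IsPModular 2 M) [Fintype (IrrCharacter G)] :
    ∃ m : IrrCharacter G → ℤ, m (oneIrr G) = 1 ∧ (∑ χ, m χ * m χ = 4) ∧
      (∀ g : G, D.psi g = ∑ χ, (m χ : ℂ) * (χ : G → ℂ) g) ∧
      (∀ χ : IrrCharacter G, classInner D.psi (χ : G → ℂ) = m χ) ∧
      (∀ χ : IrrCharacter G, m χ ≠ 0 → χ ∈ principalBlock M G) ∧
      ∀ χ : IrrCharacter G, χ ∈ principalBlock M G → (χ : G → ℂ) x = m χ := by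
  obtain ⟨m, hm, hexp⟩ := exists_coeff D.isGeneralized_psi
  refine ⟨m, ?_, ?_, hexp, hm, fun χ hne => ?_, fun χ hχ => ?_⟩
  · have h := hm (oneIrr G)
    rw [oneIrr_coe, D.classInner_psi_one] at h
    exact_mod_cast h.symm
  · have h := (classInner_coeff hexp hm).symm.trans D.psi_self
    exact_mod_cast h
  · by_contra h
    exact hne (by exact_mod_cast (hm χ).symm.trans (D.classInner_psi_not_mem hM h))
  · have h := (hm χ).symm.trans (D.classInner_psi_mem hM hχ)
    rw [← Complex.conj_conj ((χ : G → ℂ) x), ← h, map_intCast]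

end Eight

end CfsgLib.ZStar
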