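import Cfsg.Agent.Blocks.LocalPrincipal
import Cfsg.Agent.Blocks.TraceFormula
import Cfsg.Agent.Blocks.Principal
import Cfsg.Agent.Char.Kernel
import Cfsg.Agent.Invol.Isolated
import Cfsg.Agent.Comp.PComponent

/-!
# Glauberman's Z* theorem, reduced to groups with a unique involution in `C(u)`

The character argument uses the principal 2-block: the second and third main theorems give
`χ(xy) = χ(z)` for `x ~ u`, `y ~ v` and `z` the involution of `⟨xy⟩`.
-/

set_option autoImplicit false
set_option linter.style.haveILetI false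
set_option linter.unusedSectionVars false

namespace CfsgLib.ZStar

open Cfsg Finset CfsgLib.Block CfsgLib.Block.Chr CfsgLib.Char

universe u

/-- `u` is central modulo a normal subgroup of odd order. -/
def Concl (G : Type u) [Group G] (a : G) : Prop :=
  ∃ N : Subgroup G, N.Normal ∧ Odd (Nat.card N) ∧ ∀ g : G, a * g * a⁻¹ * g⁻¹ ∈ N

/-- The case of the theorem in which `u` is the only involution of its centralizer, after the
standard reductions. -/
def UniqueCase : Prop :=
  ∀ (G : Type u) [Group G] [Finite G] (a : G), IsIsolatedInvolution a →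
    (∀ v : G, orderOf v = 2 → Commute a v → v = a) → pPrimeCore 2 G = ⊥ →
      Subgroup.normalClosure ({a} : Set G) = ⊤ →
        (∀ z : G, orderOf z = 2 → z ∉ Subgroup.center G) → False

variable {G : Type u} [Group G] [Finite G]

theorem odd_iff_coprime {n : ℕ} : Odd n ↔ n.Coprime 2 := Nat.coprime_two_right.symm

theorem concl_of_central {a : G} (h : ∀ g : G, g * a * g⁻¹ = a) : Concl G a := by
  refine ⟨⊥, inferInstance, by rw [Subgroup.card_bot]; exact odd_one, fun g => ?_⟩
  rw [Subgroup.mem_bot]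
  have := h g
  rw [mul_inv_eq_iff_eq_mul] at this
  rw [← this]
  group

theorem isolated_subgroup {a : G} (ha : IsIsolatedInvolution a) {H : Subgroup G} (h : a ∈ H) :
    IsIsolatedInvolution (⟨a, h⟩ : H) := by
  refine ⟨by rw [← Subgroup.orderOf_coe]; exact ha.1, fun g hg => Subtype.ext ?_⟩
  exact ha.2 g (hg.map H.subtype)

/-- Passing from a quotient by a normal subgroup of odd order. -/
theorem concl_of_odd_quotient {N : Subgroup G} [N.Normal] (hN : Odd (Nat.card N)) {a : G}
    (h : Concl (G ⧸ N) (QuotientGroup.mk a)) : Concl G a := by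
  obtain ⟨K, hK, hKodd, hKc⟩ := h
  refine ⟨K.comap (QuotientGroup.mk' N), hK.comap _, ?_, fun g => ?_⟩
  · rw [show Nat.card (K.comap (QuotientGroup.mk' N) : Subgroup G) = Nat.card N * Nat.card K from
      QuotientGroup.card_preimage_mk N (K : Set (G ⧸ N))]
    exact hN.mul hKodd
  · exact hKc (QuotientGroup.mk g)

/-- Passing from a quotient by a central subgroup of order two. -/
theorem concl_of_central_involution {a z : G} (ha : IsIsolatedInvolution a) (hz : orderOf z = 2)
    (hzc : z ∈ Subgroup.center G) (hne : z ≠ a) (hO : pPrimeCore 2 G = ⊥)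
    (IH : ∀ (H : Type u) [Group H] [Finite H], Nat.card H < Nat.card G → ∀ b : H,
      IsIsolatedInvolution b → Concl H b) : Concl G a := by
  set Z := Subgroup.zpowers z with hZdef
  haveI hZn : Z.Normal := by
    refine ⟨fun x hx g => ?_⟩
    have hxc : x ∈ Subgroup.center G := (Subgroup.zpowers_le.2 hzc) hx
    rw [Subgroup.mem_center_iff.1 hxc g, mul_inv_cancel_right]
    exact hx
  have hZcard : Nat.card Z = 2 := (Nat.card_zpowers z).trans hz
  have haZ : a ∉ Z := by
    intro h
    obtain ⟨k, hk⟩ := Subgroup.mem_zpowers_iff.1 h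
    rcases Int.even_or_odd k with ⟨j, rfl⟩ | ⟨j, rfl⟩
    · rw [← two_mul, zpow_mul, zpow_two, ← sq, ← hz, pow_orderOf_eq_one, one_zpow] at hk
      have := ha.1
      rw [← hk, orderOf_one] at this
      exact absurd this (by decide)
    · rw [zpow_add, zpow_one, zpow_mul, zpow_two, ← sq, ← hz, pow_orderOf_eq_one, one_zpow,
        one_mul] at hk
      exact hne hk
  obtain ⟨K, hK, hKodd, hKc⟩ := IH (G ⧸ Z) (by
      rw [Subgroup.card_eq_card_quotient_mul_card_subgroup Z, hZcard]
      have := Nat.card_pos (α := G ⧸ Z)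
      omega) _ (Invol.isolated_quotient ha Z haZ).2
  set N := K.comap (QuotientGroup.mk' Z) with hNdef
  have hNcard : Nat.card N = 2 * Nat.card K := by
    rw [hNdef, show Nat.card (K.comap (QuotientGroup.mk' Z) : Subgroup G) = Nat.card Z * Nat.card K from
      QuotientGroup.card_preimage_mk Z (K : Set (G ⧸ Z)), hZcard]
  have hZN : Z ≤ N := fun x hx => by
    show (QuotientGroup.mk x : G ⧸ Z) ∈ K
    rw [(QuotientGroup.eq_one_iff x).2 hx]
    exact one_mem K
  have hidx : (Z.subgroupOf N).index = Nat.card K := by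
    have h1 := (Z.subgroupOf N).card_mul_index
    rw [Nat.card_congr (Subgroup.subgroupOfEquivOfLe hZN).toEquiv, hZcard, hNcard] at h1
    omega
  obtain ⟨L, hL⟩ := Subgroup.exists_right_complement'_of_coprime (N := Z.subgroupOf N) (by
    rw [hidx, Nat.card_congr (Subgroup.subgroupOfEquivOfLe hZN).toEquiv, hZcard]
    exact Nat.coprime_two_left.2 hKodd)
  have hLcard : Nat.card L = Nat.card K := by
    have h1 := hL.card_mul
    rw [Nat.card_congr (Subgroup.subgroupOfEquivOfLe hZN).toEquiv, hZcard, hNcard] at h1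
    omega
  have hLn : L.Normal := by
    refine ⟨fun l hl n => ?_⟩
    obtain ⟨⟨⟨q, hq⟩, ⟨l', hl'⟩⟩, rfl⟩ := hL.2 n
    have hqc : (q : G) ∈ Subgroup.center G := (Subgroup.zpowers_le.2 hzc) hq
    have : q * l' * l * (q * l')⁻¹ = l' * l * l'⁻¹ := by
      apply Subtype.ext
      push_cast
      have hcen : ∀ w : G, (q : G) * w = w * q := fun w => (Subgroup.mem_center_iff.1 hqc w).symm
      calc (q : G) * l' * l * ((q : G) * l')⁻¹ = (q : G) * ((l' : G) * l * (l' : G)⁻¹) * (q : G)⁻¹ := by group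
        _ = _ := by rw [hcen, mul_inv_cancel_right]
    show q * l' * l * (q * l')⁻¹ ∈ L
    rw [this]
    exact mul_mem (mul_mem hl' hl) (inv_mem hl')
  haveI : N.Normal := hK.comap _
  have hcore : (pPrimeCore 2 N).map N.subtype = ⊥ := by
    have hn : ((pPrimeCore 2 N).map N.subtype).Normal := by
      refine ⟨fun x hx g => ?_⟩
      exact PComp.conj_pPrimeCore_map_le (g := g)
        (by rw [Subgroup.normalizer_eq_top N]; exact Subgroup.mem_top g) ⟨x, hx, rfl⟩
    refine le_bot_iff.1 (le_trans (Solvable.le_pPrimeCore 2 hn ?_) hO.le)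
    rw [Subgroup.card_map_of_injective N.subtype_injective]
    exact Solvable.coprime_card_pPrimeCore 2
  have hK1 : Nat.card K = 1 := by
    have h1 : L.map N.subtype ≤ ⊥ := hcore ▸ Subgroup.map_mono
      (Solvable.le_pPrimeCore 2 hLn (hLcard ▸ odd_iff_coprime.1 hKodd))
    have h2 := congrArg (fun S : Subgroup G => Nat.card S) (le_bot_iff.1 h1)
    simp only [Subgroup.card_map_of_injective N.subtype_injective, Subgroup.card_bot] at h2
    rw [← hLcard, h2]
  refine concl_of_central fun g => ?_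
  have hc : a * g * a⁻¹ * g⁻¹ ∈ Z := by
    rw [← QuotientGroup.eq_one_iff]
    have := hKc (QuotientGroup.mk g)
    rw [Subgroup.eq_bot_of_card_eq K hK1, Subgroup.mem_bot] at this
    exact this
  have ha2 : a * a = 1 := by rw [← sq, ← ha.1, pow_orderOf_eq_one]
  have hai : a⁻¹ = a := inv_eq_of_mul_eq_one_right ha2
  have hrew : a * g * a⁻¹ * g⁻¹ = a * (g * a * g⁻¹) := by rw [hai]; group
  rw [hrew] at hc
  have hcc : a * (g * a * g⁻¹) ∈ Subgroup.center G := (Subgroup.zpowers_le.2 hzc) hc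
  refine ha.2 g ?_
  have h3 := Subgroup.mem_center_iff.1 hcc a
  show a * (g * a * g⁻¹) = g * a * g⁻¹ * a
  rw [← mul_assoc, ha2, one_mul, mul_assoc a] at h3
  calc a * (g * a * g⁻¹) = a * (a * (g * a * g⁻¹ * a)) := by rw [← h3]
    _ = _ := by rw [← mul_assoc, ha2, one_mul]

/-- The principal block values at a product of conjugates of `a` and `v`. -/
theorem apply_conj_mul {M : Ideal AlgInt} [M.IsPrime] (hM : IsPModular 2 M) [Fintype G] {a v : G}
    (ha : IsIsolatedInvolution a) (hv : orderOf v = 2) (hav : Commute a v) (hne : v ≠ a)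
    (hnc : ∀ z : G, orderOf z = 2 → z ∉ Subgroup.center G)
    (IH : ∀ (H : Type u) [Group H] [Finite H], Nat.card H < Nat.card G → ∀ b : H,
      IsIsolatedInvolution b → Concl H b)
    {χ : IrrCharacter G} (hχ : χ ∈ principalBlock M G) (g h : G) :
    (χ : G → ℂ) (g * a * g⁻¹ * (h * v * h⁻¹)) = (χ : G → ℂ) (a * v) := by
  set x := g * a * g⁻¹ with hxdef
  set y := h * v * h⁻¹ with hydef
  have hx : orderOf x = 2 := (Invol.orderOf_conj_eq g a).trans ha.1
  have hy : orderOf y = 2 := (Invol.orderOf_conj_eq h v).trans hv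
  have hnconj : ∀ c : G, c * a * c⁻¹ ≠ v := fun c hc => hne (hc ▸ ha.2 c (hc.symm ▸ hav))
  have hxy : ¬ IsConj x y := by
    intro hc
    obtain ⟨c, hc⟩ := isConj_iff.1 hc
    refine hnconj (h⁻¹ * c * g) ?_
    calc h⁻¹ * c * g * a * (h⁻¹ * c * g)⁻¹ = h⁻¹ * (c * x * c⁻¹) * h := by rw [hxdef]; group
      _ = v := by rw [hc, hydef]; group
  have heven : Even (orderOf (x * y)) := by
    rw [← Nat.not_odd_iff_even]
    intro ho
    obtain ⟨m, hm⟩ := Invol.exists_pow_conj_of_odd hx hy ho
    exact hxy (isConj_iff.2 ⟨_, hm⟩)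
  set z := (x * y) ^ (orderOf (x * y) / 2) with hzdef
  obtain ⟨hz, hzx, hzy⟩ := Invol.half_props hx hy heven
  have hxC : x ∈ Subgroup.centralizer ({z} : Set G) :=
    Subgroup.mem_centralizer_singleton_iff.2 hzx.symm
  have hyC : y ∈ Subgroup.centralizer ({z} : Set G) :=
    Subgroup.mem_centralizer_singleton_iff.2 hzy.symm
  have hlt : Nat.card (Subgroup.centralizer ({z} : Set G)) < Nat.card G := by
    refine lt_of_le_of_ne (Subgroup.card_le_card_group _) fun e => hnc z hz ?_
    rw [Subgroup.mem_center_iff]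
    intro w
    exact Subgroup.mem_centralizer_singleton_iff.1 (Subgroup.eq_top_of_card_eq _ e ▸ Subgroup.mem_top w)
  obtain ⟨N, hN, hNodd, hNc⟩ := IH _ hlt _
    (isolated_subgroup (Invol.isolated_conj ha g) hxC)
  -- `(xy)²` lies in the odd core of `C(z)`
  have hsqN : (⟨x, hxC⟩ * ⟨y, hyC⟩ : Subgroup.centralizer ({z} : Set G)) ^ 2 ∈ N := by
    have := hNc ⟨y, hyC⟩
    convert this using 1
    apply Subtype.ext
    push_cast
    rw [sq, Invol.inv_eq_self hx, Invol.inv_eq_self hy, mul_assoc (x * y), ← mul_assoc]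
  set d : Subgroup.centralizer ({z} : Set G) := ⟨x, hxC⟩ * ⟨y, hyC⟩ with hd
  have hdcoe : (d : G) = x * y := rfl
  obtain ⟨m, hm⟩ := heven
  have hm2 : orderOf (x * y) / 2 = m := by omega
  have hmodd : Odd m := by
    have h1 : Odd (orderOf (d ^ 2)) := Odd.of_dvd_nat hNodd (Subgroup.orderOf_dvd_natCard N hsqN)
    have hm0 : 0 < orderOf (x * y) := orderOf_pos _
    rwa [← Subgroup.orderOf_coe, Subgroup.coe_pow, hdcoe, orderOf_pow, hm, ← two_mul,
      Nat.gcd_eq_right (dvd_mul_right 2 m), Nat.mul_div_cancel_left _ two_pos] at h1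
  obtain ⟨j, hj⟩ : Even (m + 1) := hmodd.add_one
  have hr : (x * y) ^ (m + 1) ∈ centralizerPPrimeCore 2 z := by
    refine ⟨d ^ (m + 1), ?_, by rw [Subgroup.coe_subtype, Subgroup.coe_pow, hdcoe]⟩
    rw [hj, ← two_mul, pow_mul]
    exact Solvable.le_pPrimeCore 2 hN (odd_iff_coprime.1 hNodd) (pow_mem hsqN j)
  have hsplit : x * y = z * (x * y) ^ (m + 1) := by
    rw [hzdef, hm2, ← pow_add, ← add_assoc, ← hm, pow_succ, pow_orderOf_eq_one, one_mul]
  rw [hsplit, principal_apply_mul_core hM (k := 1) (by rw [hz, pow_one]) hr hχ]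
  -- `z` is conjugate to `a * v`
  have hxz : IsConj y (x * z) := by
    rcases Invol.mul_half_isConj hx hy (hm ▸ ⟨m, rfl⟩) with h1 | h1
    · exfalso
      obtain ⟨c, hc⟩ := isConj_iff.1 h1
      have h2 := (Invol.isolated_conj ha g).2 c (by
        rw [← hxdef, hc]
        exact (Commute.refl x).mul_right hzx.symm)
      rw [← hxdef, hc] at h2
      exact (ne_of_apply_ne orderOf (by rw [hz, orderOf_one]; decide) : z ≠ 1) (mul_eq_left.1 h2)
    · exact h1
  obtain ⟨c, hc⟩ := isConj_iff.1 hxz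
  set z' := g⁻¹ * z * g with hz'
  have hconj : (g⁻¹ * c * h) * v * (g⁻¹ * c * h)⁻¹ = a * z' := by
    calc (g⁻¹ * c * h) * v * (g⁻¹ * c * h)⁻¹ = g⁻¹ * (c * y * c⁻¹) * g := by rw [hydef]; group
      _ = g⁻¹ * (x * z) * g := by rw [hc]
      _ = a * z' := by rw [hxdef, hz']; group
  have haz' : Commute a z' := by
    have h1 := hzx.map (MulAut.conj g⁻¹).toMonoidHom
    simp only [MulEquiv.coe_toMonoidHom, MulAut.conj_apply, inv_inv] at h1
    rw [hxdef, show g⁻¹ * (g * a * g⁻¹) * g = a by group] at h1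
    exact h1.symm
  obtain ⟨e, -, hea, he⟩ := Invol.isolated_fusion ha ⊤
    (by rw [Subgroup.normalizer_eq_top (⊤ : Subgroup G)]; exact Subgroup.mem_top a)
    hav.symm ((Commute.refl a).mul_left haz'.symm) (Subgroup.mem_top _) hconj
  have hfin : IsConj (a * v) z := by
    refine isConj_iff.2 ⟨g * e, ?_⟩
    calc g * e * (a * v) * (g * e)⁻¹ = g * ((e * a * e⁻¹) * (e * v * e⁻¹)) * g⁻¹ := by group
      _ = g * (a * (a * z')) * g⁻¹ := by rw [he, hea.eq, mul_inv_cancel_right]
      _ = z := by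
        rw [← mul_assoc a, ← sq, ← ha.1, pow_orderOf_eq_one, one_mul, hz']
        group
  exact (IsClassFunction.apply_eq_of_isConj (isClassFunction_irr χ) hfin).symm

/-- Hence the value relation `χ(a) χ(v) = χ(1) χ(av)`. -/
theorem value_mul [Fintype G] {a v : G} (χ : IrrCharacter G)
    (h : ∀ g k : G, (χ : G → ℂ) (g * a * g⁻¹ * (k * v * k⁻¹)) = (χ : G → ℂ) (a * v)) :
    (χ : G → ℂ) a * (χ : G → ℂ) v = (χ : G → ℂ) 1 * (χ : G → ℂ) (a * v) := by
  classical
  let A : G → ℂ := fun x => if IsConj a x then 1 else 0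
  let B : G → ℂ := fun x => if IsConj v x then 1 else 0
  have hA : IsClassFunction G A := fun x y => by
    have hxy : IsConj x (y * x * y⁻¹) := isConj_iff.2 ⟨y, rfl⟩
    exact if_congr ⟨fun h => h.trans hxy.symm, fun h => h.trans hxy⟩ rfl rfl
  have key := class_mul χ hA B
  have hsum : ∀ b : G, (∑ x : G, (if IsConj b x then (1 : ℂ) else 0) * (χ : G → ℂ) x) =
      ((univ.filter (IsConj b)).card : ℂ) * (χ : G → ℂ) b := by
    intro b
    simp only [ite_mul, one_mul, zero_mul]
    rw [← sum_filter, sum_congr rfl fun x hx => (IsClassFunction.apply_eq_of_isConj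
      (isClassFunction_irr χ) (mem_filter.1 hx).2).symm, sum_const, nsmul_eq_mul]
  have hl : ∑ x : G, ∑ k : G, A x * B k * (χ : G → ℂ) (x * k) =
      ((univ.filter (IsConj a)).card : ℂ) * ((univ.filter (IsConj v)).card : ℂ) *
        (χ : G → ℂ) (a * v) := by
    have hval : ∀ x k : G, A x * B k * (χ : G → ℂ) (x * k) =
        A x * (B k * (χ : G → ℂ) (a * v)) := by
      intro x k
      by_cases hxa : IsConj a x
      · by_cases hkv : IsConj v k
        · obtain ⟨g, rfl⟩ := isConj_iff.1 hxa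
          obtain ⟨l, rfl⟩ := isConj_iff.1 hkv
          rw [h, mul_assoc]
        · rw [show B k = 0 from if_neg hkv]; simp
      · rw [show A x = 0 from if_neg hxa]; simp
    simp only [hval, ← mul_sum, ← sum_mul]
    simp only [A, B, sum_boole]
    ring
  rw [hl, hsum, hsum] at key
  have hpos : ∀ b : G, ((univ.filter (IsConj b)).card : ℂ) ≠ 0 := fun b => by
    exact_mod_cast (card_pos.2 ⟨b, mem_filter.2 ⟨mem_univ b, IsConj.refl b⟩⟩).ne'
  apply mul_left_cancel₀ (mul_ne_zero (hpos a) (hpos v))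
  linear_combination -key

/-- If `|χ(a)| = χ(1)` for an involution `a` then `a` acts by a sign. -/
theorem exists_sign {a : G} (χ : IrrCharacter G)
    (h : (χ : G → ℂ) a ^ 2 = (χ : G → ℂ) 1 ^ 2) :
    ∃ ε : ℂ, ε * ε = 1 ∧ ∀ k : G, (χ : G → ℂ) (a * k) = ε * (χ : G → ℂ) k := by
  obtain ⟨n, σ, hirr, hχ⟩ := χ.2
  simp only [← hχ] at h ⊢
  rw [char_one_eq] at h
  have hnorm : ‖σ.character a‖ = (Module.finrank ℂ (Fin n → ℂ) : ℝ) := by
    rw [Module.finrank_fin_fun]
    have h2 := congrArg norm h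
    rw [norm_pow, norm_pow, Complex.norm_natCast] at h2
    exact (pow_left_inj₀ (norm_nonneg _) (Nat.cast_nonneg n) two_ne_zero).1 h2
  obtain ⟨ω, hω⟩ := (Char.norm_character_eq_iff σ a).1 hnorm
  have hval : ∀ k : G, σ.character (a * k) = ω * σ.character k := by
    intro k
    simp only [Representation.character, map_mul]
    rw [hω, show ((ω • (LinearMap.id : (Fin n → ℂ) →ₗ[ℂ] (Fin n → ℂ))) * σ k) = ω • σ k from by
      rw [smul_mul_assoc]; rfl, map_smul, smul_eq_mul]
  refine ⟨ω, ?_, hval⟩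
  have hn : (n : ℂ) ≠ 0 := by
    have := irr_one_ne_zero ⟨σ.character, _, σ, hirr, rfl⟩
    change σ.character 1 ≠ 0 at this
    rwa [char_one_eq] at this
  have h1 := hval 1
  rw [mul_one, char_one_eq] at h1
  rw [h1, mul_pow] at h
  exact (sq ω) ▸ mul_right_cancel₀ (pow_ne_zero 2 hn) (h.trans (one_mul _).symm)

/-- The contradiction from weak block orthogonality. -/
theorem false_of_two_involutions {M : Ideal AlgInt} [M.IsPrime] (hM : IsPModular 2 M) [Fintype G]
    {a v : G} (ha : IsIsolatedInvolution a) (hv : orderOf v = 2) (hav : Commute a v) (hne : v ≠ a)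
    (hgen : Subgroup.normalClosure ({a} : Set G) = ⊤)
    (hnc : ∀ z : G, orderOf z = 2 → z ∉ Subgroup.center G)
    (IH : ∀ (H : Type u) [Group H] [Finite H], Nat.card H < Nat.card G → ∀ b : H,
      IsIsolatedInvolution b → Concl H b) : False := by
  classical
  letI := irrFintype (G := G)
  have ha2 : a * a = 1 := Invol.mul_self_eq_one ha.1
  have hv2 : v * v = 1 := Invol.mul_self_eq_one hv
  have hw : orderOf (a * v) = 2 := by
    refine Invol.orderOf_eq_two ?_ ?_
    · rw [hav.symm.mul_mul_mul_comm, ha2, hv2, one_mul]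
    · intro h
      exact hne ((eq_inv_of_mul_eq_one_right h).trans (Invol.inv_eq_self ha.1))
  have hwa : a * (a * v) = v := by rw [← mul_assoc, ha2, one_mul]
  have hwne : a * v ≠ a := fun h => by
    have : v = 1 := mul_eq_left.1 h
    rw [this, orderOf_one] at hv
    exact absurd hv (by decide)
  -- the two relations
  have hrel : ∀ χ ∈ principalBlock M G, (χ : G → ℂ) a ^ 2 = (χ : G → ℂ) 1 ^ 2 ∨
      ((χ : G → ℂ) v = 0 ∧ (χ : G → ℂ) (a * v) = 0) := by
    intro χ hχ
    have h1 := value_mul χ (apply_conj_mul hM ha hv hav hne hnc IH hχ)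
    have h2 := value_mul χ (apply_conj_mul hM ha hw ((Commute.refl a).mul_right hav) hwne hnc IH hχ)
    rw [hwa] at h2
    rw [or_iff_not_imp_left]
    intro hd
    have hv0 : (χ : G → ℂ) v = 0 := by
      have h3 : ((χ : G → ℂ) a ^ 2 - (χ : G → ℂ) 1 ^ 2) * (χ : G → ℂ) v = 0 := by
        linear_combination (χ : G → ℂ) a * h1 + (χ : G → ℂ) 1 * h2
      exact (mul_eq_zero.1 h3).resolve_left (sub_ne_zero.2 hd)
    refine ⟨hv0, ?_⟩
    rw [hv0, mul_zero] at h1
    exact (mul_eq_zero.1 h1.symm).resolve_left (irr_one_ne_zero χ)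
  -- every element acts on the scalar characters as a power of `a`
  let P : G → Prop := fun g => ∃ e : ℕ, ∀ (χ : IrrCharacter G) (ε : ℂ), ε * ε = 1 →
    (∀ k, (χ : G → ℂ) (a * k) = ε * (χ : G → ℂ) k) →
      ∀ k, (χ : G → ℂ) (g * k) = ε ^ e * (χ : G → ℂ) k
  have hP : ∀ g : G, P g := by
    intro g
    have hg : g ∈ Subgroup.closure (Group.conjugatesOfSet ({a} : Set G)) := by
      show g ∈ Subgroup.normalClosure ({a} : Set G)
      rw [hgen]
      exact Subgroup.mem_top g
    induction hg using Subgroup.closure_induction with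
    | mem x hx =>
      obtain ⟨b, hb, hbx⟩ := Group.mem_conjugatesOfSet_iff.1 hx
      rw [Set.mem_singleton_iff.1 hb] at hbx
      obtain ⟨c, rfl⟩ := isConj_iff.1 hbx
      refine ⟨1, fun χ ε _ hε k => ?_⟩
      have hcl := isClassFunction_irr χ
      calc (χ : G → ℂ) (c * a * c⁻¹ * k) = (χ : G → ℂ) (c * (a * (c⁻¹ * k * c)) * c⁻¹) := by
            congr 1; group
        _ = ε * (χ : G → ℂ) (c⁻¹ * k * c) := by rw [hcl, hε]
        _ = ε ^ 1 * (χ : G → ℂ) k := by
            rw [pow_one, show c⁻¹ * k * c = c⁻¹ * k * c⁻¹⁻¹ by rw [inv_inv], hcl]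
    | one => exact ⟨0, fun χ ε _ _ k => by rw [one_mul, pow_zero, one_mul]⟩
    | mul x y _ _ hx hy =>
      obtain ⟨e, he⟩ := hx
      obtain ⟨f, hf⟩ := hy
      exact ⟨e + f, fun χ ε h1 h2 k => by
        rw [mul_assoc, he χ ε h1 h2, hf χ ε h1 h2, pow_add, mul_assoc]⟩
    | inv x _ hx =>
      obtain ⟨e, he⟩ := hx
      refine ⟨e, fun χ ε h1 h2 k => ?_⟩
      have h3 := he χ ε h1 h2 (x⁻¹ * k)
      rw [mul_inv_cancel_left] at h3
      rw [h3, ← mul_assoc, ← mul_pow, h1, one_pow, one_mul]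
  -- choose the involution with even exponent
  obtain ⟨w, hw2, hwP, hw0⟩ : ∃ w : G, orderOf w = 2 ∧
      (∀ (χ : IrrCharacter G) (ε : ℂ), ε * ε = 1 →
        (∀ k, (χ : G → ℂ) (a * k) = ε * (χ : G → ℂ) k) → (χ : G → ℂ) w = (χ : G → ℂ) 1) ∧
      (∀ χ ∈ principalBlock M G, ¬ (χ : G → ℂ) a ^ 2 = (χ : G → ℂ) 1 ^ 2 →
        (χ : G → ℂ) w = 0) := by
    obtain ⟨e, he⟩ := hP v
    rcases Nat.even_or_odd e with ⟨t, ht⟩ | ⟨t, ht⟩
    · refine ⟨v, hv, fun χ ε h1 h2 => ?_, fun χ hχ hd => ((hrel χ hχ).resolve_left hd).1⟩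
      have := he χ ε h1 h2 1
      rwa [mul_one, ht, ← two_mul, pow_mul, sq, h1, one_pow, one_mul] at this
    · refine ⟨a * v, hw, fun χ ε h1 h2 => ?_, fun χ hχ hd => ((hrel χ hχ).resolve_left hd).2⟩
      have := he χ ε h1 h2 1
      rw [mul_one, ht, pow_succ, pow_mul, sq, h1, one_pow, one_mul] at this
      rw [h2, this, ← mul_assoc, h1, one_mul]
  haveI hB : IsPBlock M (principalBlock M G) := isPBlock_principalBlock
  have horth := weak_orth hM (isIntClass_blockCoeff hB) (g := (1 : G)) (h := w)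
    (by rw [orderOf_one]; decide) (by rw [hw2])
  set S := (univ.filter (· ∈ principalBlock M G)).filter
    (fun χ : IrrCharacter G => (χ : G → ℂ) a ^ 2 = (χ : G → ℂ) 1 ^ 2)
  have heq : ∑ χ ∈ univ.filter (· ∈ principalBlock M G),
      (χ : G → ℂ) 1 * starRingEnd ℂ ((χ : G → ℂ) w) =
      ∑ χ ∈ S, ((charDegree (χ : G → ℂ) ^ 2 : ℕ) : ℂ) := by
    rw [← sum_filter_add_sum_filter_not _
      (fun χ : IrrCharacter G => (χ : G → ℂ) a ^ 2 = (χ : G → ℂ) 1 ^ 2)]
    conv_rhs => rw [← add_zero (∑ χ ∈ S, _)]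
    congr 1
    · refine sum_congr rfl fun χ hχ => ?_
      obtain ⟨ε, h1, h2⟩ := exists_sign χ (mem_filter.1 hχ).2
      rw [hwP χ ε h1 h2, (irr_one χ).1, map_natCast, Nat.cast_pow, sq]
    · refine sum_eq_zero fun χ hχ => ?_
      simp only [mem_filter, mem_univ, true_and] at hχ
      rw [hw0 χ hχ.1 hχ.2, map_zero, mul_zero]
  rw [heq, ← Nat.cast_sum, Nat.cast_eq_zero, sum_eq_zero_iff] at horth
  have hmem : oneIrr G ∈ S := by
    simp only [S, mem_filter, mem_univ, true_and, oneIrr_apply, and_true]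
    exact oneIrr_mem_principalBlock
  have := horth _ hmem
  rw [sq, mul_eq_zero, or_self] at this
  exact (irr_one (oneIrr G)).2.ne' this

/-- **Glauberman's Z* theorem**, given the case of a unique involution in the centralizer. -/
theorem zstar_of_unique (hU : UniqueCase.{u}) :
    ∀ (n : ℕ) (G : Type u) [Group G] [Finite G], Nat.card G = n → ∀ a : G,
      IsIsolatedInvolution a → Concl G a := by
  intro n
  induction n using Nat.strong_induction_on with
  | _ n ih =>
  intro G _ _ hn a ha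
  subst hn
  haveI : Fintype G := Fintype.ofFinite G
  have IH : ∀ (H : Type u) [Group H] [Finite H], Nat.card H < Nat.card G → ∀ b : H,
      IsIsolatedInvolution b → Concl H b := fun H _ _ h b hb => ih _ h H rfl b hb
  have ha2 : a * a = 1 := Invol.mul_self_eq_one ha.1
  by_cases hO : pPrimeCore 2 G = ⊥
  swap
  · have hodd : Odd (Nat.card (pPrimeCore 2 G)) :=
      odd_iff_coprime.2 (Solvable.coprime_card_pPrimeCore 2)
    refine concl_of_odd_quotient hodd (IH _ ?_ _ (Invol.isolated_quotient ha _ ?_).2)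
    · rw [Subgroup.card_eq_card_quotient_mul_card_subgroup (pPrimeCore 2 G)]
      have h1 := Nat.card_pos (α := G ⧸ pPrimeCore 2 G)
      have h2 : 1 < Nat.card (pPrimeCore 2 G) := (Subgroup.one_lt_card_iff_ne_bot _).2 hO
      exact lt_mul_of_one_lt_right h1 h2
    · intro h
      have := hodd.of_dvd_nat (Subgroup.orderOf_dvd_natCard _ h)
      rw [ha.1] at this
      exact absurd this (by decide)
  by_cases hgen : Subgroup.normalClosure ({a} : Set G) = ⊤
  swap
  · set H := Subgroup.normalClosure ({a} : Set G)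
    have haH : a ∈ H := Subgroup.subset_normalClosure rfl
    have hlt : Nat.card H < Nat.card G :=
      lt_of_le_of_ne (Subgroup.card_le_card_group _) fun e => hgen (Subgroup.eq_top_of_card_eq _ e)
    obtain ⟨N, hN, hNodd, hNc⟩ := IH _ hlt _ (isolated_subgroup ha haH)
    have hcore : (pPrimeCore 2 H).map H.subtype = ⊥ := by
      have hn : ((pPrimeCore 2 H).map H.subtype).Normal := ⟨fun x hx g =>
        PComp.conj_pPrimeCore_map_le (g := g)
          (by rw [Subgroup.normalizer_eq_top H]; exact Subgroup.mem_top g) ⟨x, hx, rfl⟩⟩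
      refine le_bot_iff.1 (le_trans (Solvable.le_pPrimeCore 2 hn ?_) hO.le)
      rw [Subgroup.card_map_of_injective H.subtype_injective]
      exact Solvable.coprime_card_pPrimeCore 2
    refine concl_of_central fun g => ?_
    have hgH : g * a * g⁻¹ ∈ H := Subgroup.normalClosure_normal.conj_mem _ haH g
    have h1 : a * (g * a * g⁻¹) * a⁻¹ * (g * a * g⁻¹)⁻¹ ∈ (pPrimeCore 2 H).map H.subtype :=
      ⟨_, Solvable.le_pPrimeCore 2 hN (odd_iff_coprime.1 hNodd) (hNc ⟨_, hgH⟩), rfl⟩
    rw [hcore, Subgroup.mem_bot, mul_inv_eq_one, mul_inv_eq_iff_eq_mul] at h1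
    exact ha.2 g h1
  by_cases hz : ∃ z : G, orderOf z = 2 ∧ z ∈ Subgroup.center G
  · obtain ⟨z, hz2, hzc⟩ := hz
    by_cases hza : z = a
    · subst hza
      exact concl_of_central fun g => by
        rw [Subgroup.mem_center_iff.1 hzc g, mul_inv_cancel_right]
    · exact concl_of_central_involution ha hz2 hzc hza hO IH
  push Not at hz
  by_cases hu : ∀ v : G, orderOf v = 2 → Commute a v → v = a
  · exact (hU G a ha hu hO hgen hz).elim
  push Not at hu
  obtain ⟨v, hv, hav, hne⟩ := hu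
  obtain ⟨M, hM⟩ := exists_isPModular Nat.prime_two
  haveI := hM.2.1.isPrime
  exact (false_of_two_involutions hM ha hv hav hne hgen hz IH).elim

end CfsgLib.ZStar
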