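import Cfsg.Agent.ZStar.RankOne
import Cfsg.Agent.InvChar.UniqueInvolution
import Cfsg.Agent.Solvable.Basics
import Mathlib.GroupTheory.Transfer
import Mathlib.GroupTheory.Index

/-!
# A unique involution in the centralizer: the Sylow 2-subgroup and its fusion
-/

set_option autoImplicit false
set_option linter.style.haveILetI false
set_option linter.unusedSectionVars false

namespace CfsgLib.ZStar

open Cfsg Subgroup

universe u

variable {G : Type u} [Group G] [Finite G] {a : G}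

/-- `a` is central in every 2-subgroup containing it. -/
theorem commute_of_mem_two_group (ha : IsIsolatedInvolution a)
    (huniq : ∀ v : G, orderOf v = 2 → Commute a v → v = a) {P : Subgroup G} (hP : IsPGroup 2 P)
    (haP : a ∈ P) {g : G} (hg : g ∈ P) : Commute a g := by
  haveI : Fact (Nat.Prime 2) := ⟨Nat.prime_two⟩
  haveI : Nontrivial P := ⟨⟨⟨a, haP⟩, 1, fun h => Invol.ne_one ha.1 (congrArg Subtype.val h)⟩⟩
  obtain ⟨k, hk⟩ := hP.exists_card_eq
  haveI := hP.center_nontrivial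
  have h2 : 2 ∣ Nat.card (center P) := (hP.to_subgroup _).card_eq_or_dvd.resolve_left
    Finite.one_lt_card.ne'
  obtain ⟨⟨v, hv⟩, hvo⟩ := exists_prime_orderOf_dvd_card' 2 h2
  rw [← Subgroup.orderOf_coe, ← Subgroup.orderOf_coe] at hvo
  have hcomm : ∀ w ∈ P, Commute (v : G) w := fun w hw =>
    congrArg Subtype.val (mem_center_iff.1 hv ⟨w, hw⟩).symm
  rw [← huniq _ hvo (hcomm a haP).symm]
  exact hcomm g hg

theorem exists_sylow_mem (ha : orderOf a = 2) : ∃ P : Sylow 2 G, a ∈ P := by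
  haveI : Fact (Nat.Prime 2) := ⟨Nat.prime_two⟩
  have h : IsPGroup 2 (zpowers a) := IsPGroup.of_card (n := 1) (by rw [Nat.card_zpowers, ha, pow_one])
  obtain ⟨P, hP⟩ := h.exists_le_sylow
  exact ⟨P, hP (mem_zpowers a)⟩

theorem involution_unique (ha : IsIsolatedInvolution a)
    (huniq : ∀ v : G, orderOf v = 2 → Commute a v → v = a) (P : Sylow 2 G) (haP : a ∈ P)
    {v : G} (hv : v ∈ P) (hv2 : orderOf v = 2) : v = a :=
  huniq v hv2 (commute_of_mem_two_group ha huniq P.isPGroup' haP hv)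

/-- The Sylow subgroup is not cyclic. -/
theorem not_isCyclic (ha : IsIsolatedInvolution a)
    (huniq : ∀ v : G, orderOf v = 2 → Commute a v → v = a) (hO : pPrimeCore 2 G = ⊥)
    (hnc : ∀ z : G, orderOf z = 2 → z ∉ center G) (P : Sylow 2 G) (haP : a ∈ P) :
    ¬ IsCyclic P := by
  intro hP
  haveI : Fact (Nat.Prime 2) := ⟨Nat.prime_two⟩
  have h2 : 2 ∣ Nat.card G := ha.1 ▸ orderOf_dvd_natCard a
  have hmin : (Nat.card G).minFac = 2 := (Nat.minFac_eq_two_iff _).2 h2
  have hcompl := IsCyclic.isComplement' hmin hP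
  set K := (MonoidHom.transferSylow P (IsCyclic.normalizer_le_centralizer hmin hP)).ker
  have hK : (Nat.card K).Coprime 2 := by
    rw [← hcompl.index_eq_card]
    exact (Nat.Prime.coprime_iff_not_dvd Nat.prime_two).2 P.not_dvd_index |>.symm
  have hKbot : K = ⊥ := le_bot_iff.1 (hO ▸ Solvable.le_pPrimeCore 2 inferInstance hK)
  have htop : (P : Subgroup G) = ⊤ := by
    refine eq_top_of_card_eq _ ?_
    have h1 := hcompl.card_mul
    rwa [hKbot, card_bot, one_mul] at h1
  refine hnc a ha.1 (mem_center_iff.2 fun g => ?_)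
  exact (commute_of_mem_two_group ha huniq P.isPGroup' haP (htop ▸ mem_top g)).eq.symm

/-- The generalized quaternion presentation of the Sylow subgroup. -/
structure QSylow (G : Type u) [Group G] (a : G) : Type u where
  P : Sylow 2 G
  haP : a ∈ P
  gen : G
  n : ℕ
  hn : 2 ≤ n
  hgen : orderOf gen = 2 ^ n
  hgenP : gen ∈ P
  hgena : gen ^ 2 ^ (n - 1) = a
  hcard : Nat.card P = 2 ^ (n + 1)
  hout : ∀ g ∈ P, g ∉ zpowers gen → g * gen * g⁻¹ = gen⁻¹ ∧ g ^ 2 = a

theorem exists_qsylow (ha : IsIsolatedInvolution a)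
    (huniq : ∀ v : G, orderOf v = 2 → Commute a v → v = a) (hO : pPrimeCore 2 G = ⊥)
    (hnc : ∀ z : G, orderOf z = 2 → z ∉ center G) : Nonempty (QSylow G a) := by
  haveI : Fact (Nat.Prime 2) := ⟨Nat.prime_two⟩
  obtain ⟨P, haP⟩ := exists_sylow_mem ha.1
  have hu : ∀ x y : (P : Subgroup G), orderOf x = 2 → orderOf y = 2 → y ∈ zpowers x := by
    intro x y hx hy
    rw [← Subgroup.orderOf_coe] at hx hy
    have : x = y := Subtype.ext ((involution_unique ha huniq P haP x.2 hx).trans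
      (involution_unique ha huniq P haP y.2 hy).symm)
    rw [this]
    exact mem_zpowers y
  rcases UniqueInvol.structure_thm P.isPGroup' hu with h | ⟨-, g, n, hn, hg, hidx, hout⟩
  · exact absurd h (not_isCyclic ha huniq hO hnc P haP)
  · have hga : (g : G) ^ 2 ^ (n - 1) = a := by
      refine involution_unique ha huniq P haP (pow_mem g.2 _) ?_
      rw [orderOf_pow, Subgroup.orderOf_coe, hg, Nat.gcd_eq_right (pow_dvd_pow 2 (Nat.sub_le n 1)),
        Nat.pow_div (Nat.sub_le n 1) two_pos, show n - (n - 1) = 1 by omega, pow_one]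
    refine ⟨⟨P, haP, g, n, hn, by rw [Subgroup.orderOf_coe, hg], g.2, hga, ?_, ?_⟩⟩
    · rw [← (zpowers g).card_mul_index, Nat.card_zpowers, hg, hidx, pow_succ]
    · intro w hw hwg
      have h := hout ⟨w, hw⟩ fun h => by
        obtain ⟨i, hi⟩ := mem_zpowers_iff.1 h
        exact hwg (mem_zpowers_iff.2 ⟨i, by rw [← Subgroup.coe_zpow, hi]⟩)
      exact ⟨congrArg Subtype.val h.1,
        (congrArg Subtype.val h.2).trans (by rw [Subgroup.coe_pow]; exact hga)⟩

namespace QSylow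

variable (S : QSylow G a)

/-- The element of order four in the cyclic maximal subgroup. -/
def x : G := S.gen ^ 2 ^ (S.n - 2)

theorem x_mem : S.x ∈ S.P := pow_mem S.hgenP _

theorem orderOf_x : orderOf S.x = 4 := by
  rw [x, orderOf_pow, S.hgen, Nat.gcd_eq_right (pow_dvd_pow 2 (Nat.sub_le _ _)),
    Nat.pow_div (Nat.sub_le _ _) two_pos, show S.n - (S.n - 2) = 2 by have := S.hn; omega]
  rfl

theorem x_sq : S.x ^ 2 = a := by
  rw [x, ← pow_mul, ← pow_succ, show S.n - 2 + 1 = S.n - 1 by have := S.hn; omega, S.hgena]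

theorem x_eq_of_two (h : S.n = 2) : S.x = S.gen := by
  rw [x, h]; exact pow_one _

theorem exists_outside : ∃ b ∈ S.P, b ∉ zpowers S.gen := by
  by_contra! h
  have := card_le_of_le (show (S.P : Subgroup G) ≤ zpowers S.gen from h)
  rw [S.hcard, Nat.card_zpowers, S.hgen, pow_succ] at this
  have := Nat.two_pow_pos S.n
  omega

theorem conj_x {b : G} (hb : b ∈ S.P) (hbg : b ∉ zpowers S.gen) : b * S.x * b⁻¹ = S.x⁻¹ := by
  rw [x, ← conj_pow, (S.hout b hb hbg).1, inv_pow]

theorem x_ne_inv : S.x⁻¹ ≠ S.x := by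
  intro h
  have h2 : S.x ^ 2 = 1 := by rw [sq]; nth_rw 1 [← h]; exact inv_mul_cancel _
  have h4 := orderOf_dvd_of_pow_eq_one h2
  rw [S.orderOf_x] at h4
  exact absurd h4 (by decide)

/-- No element of order four is central in the Sylow subgroup. -/
theorem exists_not_commute {y : G} (hy : y ∈ S.P) (hy4 : orderOf y = 4) :
    ∃ w ∈ S.P, ¬ Commute w y := by
  obtain ⟨b, hb, hbg⟩ := S.exists_outside
  by_cases hyg : y ∈ zpowers S.gen
  · refine ⟨b, hb, fun h => ?_⟩
    obtain ⟨i, hi⟩ := mem_zpowers_iff.1 hyg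
    have h1 : b * y * b⁻¹ = y⁻¹ := by rw [← hi, ← conj_zpow, (S.hout b hb hbg).1, inv_zpow]
    rw [h.eq, mul_inv_cancel_right] at h1
    have h2 : y ^ 2 = 1 := by rw [sq]; nth_rw 1 [h1]; exact inv_mul_cancel y
    have h3 := orderOf_dvd_of_pow_eq_one h2
    rw [hy4] at h3
    exact absurd h3 (by decide)
  · refine ⟨S.gen, S.hgenP, fun h => ?_⟩
    have h1 := (S.hout y hy hyg).1
    rw [h.symm.eq, mul_inv_cancel_right] at h1
    have h2 : S.gen ^ 2 = 1 := by rw [sq]; nth_rw 1 [h1]; exact inv_mul_cancel _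
    have h3 := orderOf_dvd_of_pow_eq_one h2
    rw [S.hgen] at h3
    have := Nat.le_of_dvd two_pos h3
    have := Nat.pow_le_pow_right two_pos S.hn
    omega

/-- `⟨gen⟩` as a subgroup of `C(x)`. -/
def cyc : Subgroup (centralizer ({S.x} : Set G)) := (zpowers S.gen).subgroupOf _

theorem gen_mem : S.gen ∈ centralizer ({S.x} : Set G) :=
  mem_centralizer_singleton_iff.2 (Commute.self_pow S.gen _).eq

theorem card_cyc : Nat.card S.cyc = 2 ^ S.n := by
  rw [cyc, Nat.card_congr (subgroupOfEquivOfLe (zpowers_le.2 S.gen_mem)).toEquiv,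
    Nat.card_zpowers, S.hgen]

theorem exists_sylow_cyc : ∃ Q : Sylow 2 (centralizer ({S.x} : Set G)),
    (Q : Subgroup (centralizer ({S.x} : Set G))) = S.cyc := by
  haveI : Fact (Nat.Prime 2) := ⟨Nat.prime_two⟩
  obtain ⟨Q, hQ⟩ := (IsPGroup.of_card S.card_cyc).exists_le_sylow
  refine ⟨Q, (Subgroup.eq_of_le_of_card_ge hQ ?_).symm⟩
  set Q' := (Q : Subgroup (centralizer ({S.x} : Set G))).map (centralizer ({S.x} : Set G)).subtype
  have hQ'p : IsPGroup 2 Q' := Q.isPGroup'.map _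
  have hQcard : Nat.card Q' = Nat.card Q := card_map_of_injective (subtype_injective _)
  have hxQ : S.x ∈ Q' :=
    ⟨⟨S.x, mem_centralizer_singleton_iff.2 rfl⟩,
      hQ (mem_subgroupOf.2 (pow_mem (mem_zpowers _) _)), rfl⟩
  obtain ⟨T, hT⟩ := hQ'p.exists_le_sylow
  obtain ⟨g, hg⟩ := MulAction.exists_smul_eq G T S.P
  set R := Q'.map (MulAut.conj g).toMonoidHom
  have hR : R ≤ (S.P : Subgroup G) := hg ▸ (map_mono hT : R ≤ _)
  have hRcard : Nat.card R = Nat.card Q' :=
    card_map_of_injective (f := (MulAut.conj g).toMonoidHom) (MulAut.conj g).injective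
  have hne : R ≠ (S.P : Subgroup G) := by
    intro h
    obtain ⟨w, hw, hwc⟩ := S.exists_not_commute (y := g * S.x * g⁻¹)
      (hR ⟨S.x, hxQ, rfl⟩) ((Invol.orderOf_conj_eq g S.x).trans S.orderOf_x)
    rw [← SetLike.mem_coe, ← Sylow.coe_coe, ← h] at hw
    obtain ⟨q, ⟨c, hc, rfl⟩, rfl⟩ := hw
    exact hwc ((show Commute (c : G) S.x from
      mem_centralizer_singleton_iff.1 c.2).map (MulAut.conj g).toMonoidHom)
  have hdvd : Nat.card R ∣ 2 ^ (S.n + 1) := S.hcard ▸ card_dvd_of_le hR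
  obtain ⟨k, hk, hkeq⟩ := (Nat.dvd_prime_pow Nat.prime_two).1 hdvd
  have hk' : k ≠ S.n + 1 := fun h =>
    hne (Subgroup.eq_of_le_of_card_ge hR (by rw [hkeq, h]; exact S.hcard.le))
  rw [S.card_cyc, ← hQcard, ← hRcard, hkeq]
  exact Nat.pow_le_pow_right two_pos (by omega)

theorem exists_qdata (ha : IsIsolatedInvolution a)
    (huniq : ∀ v : G, orderOf v = 2 → Commute a v → v = a) :
    ∃ b : G, ∃ D : QData G a S.x b, (2 < S.n → D.ρ * D.ρ ≠ 1) ∧
      (S.n = 2 → (∀ c, D.ρ c * D.ρ c = 1) ∧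
        ∀ c : centralizer ({S.x} : Set G), (c : G) = S.x → D.ρ c ≠ 1) ∧
      ∀ c d : centralizer ({S.x} : Set G), Odd (orderOf c) → Odd (orderOf d) →
        Odd (orderOf (c * d)) := by
  classical
  haveI : Fact (Nat.Prime 2) := ⟨Nat.prime_two⟩
  obtain ⟨b, hb, hbg⟩ := S.exists_outside
  set C := centralizer ({S.x} : Set G) with hC
  obtain ⟨Q, hQ⟩ := S.exists_sylow_cyc
  set g0 : C := ⟨S.gen, S.gen_mem⟩
  have hg0 : orderOf g0 = 2 ^ S.n := by rw [← Subgroup.orderOf_coe]; exact S.hgen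
  have hQz : (Q : Subgroup C) = zpowers g0 := by
    rw [hQ]
    ext c
    rw [cyc, mem_subgroupOf, mem_zpowers_iff, mem_zpowers_iff]
    exact ⟨fun ⟨i, hi⟩ => ⟨i, Subtype.ext (by rw [Subgroup.coe_zpow]; exact hi)⟩,
      fun ⟨i, hi⟩ => ⟨i, by rw [← hi, Subgroup.coe_zpow]⟩⟩
  have hQc : IsCyclic Q := by
    rw [show ((Q : Subgroup C) : Subgroup C) = zpowers g0 from hQz]
    infer_instance
  have hmin : (Nat.card C).minFac = 2 := by
    rw [Nat.minFac_eq_two_iff]
    refine (dvd_trans ?_ (hg0 ▸ orderOf_dvd_natCard g0))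
    exact dvd_pow_self 2 (by have := S.hn; omega)
  have hNC := IsCyclic.normalizer_le_centralizer hmin hQc
  -- a linear character of the Sylow subgroup
  obtain ⟨ω, hω4, hωa, hω1, hω2, hω3, hω22⟩ : ∃ ω : ℂˣ, ω ^ 4 = 1 ∧ ω ^ 2 ^ (S.n - 1) = 1 ∧
      (∀ m : ℕ, Odd m → ω ^ m ≠ 1) ∧ (2 < S.n → ∀ m : ℕ, Odd m → ω ^ m * ω ^ m ≠ 1) ∧
      ω ^ 2 ^ S.n = 1 ∧ (S.n = 2 → ω * ω = 1) := by
    by_cases hn : 2 < S.n
    · refine ⟨Units.mk0 Complex.I Complex.I_ne_zero, ?_, ?_, ?_, ?_, ?_⟩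
      · exact Units.ext (by simp)
      · obtain ⟨j, hj⟩ : 4 ∣ 2 ^ (S.n - 1) := pow_dvd_pow 2 (show 2 ≤ S.n - 1 by omega)
        exact Units.ext (by simp [hj, pow_mul])
      · intro m hm h
        obtain ⟨j, rfl⟩ := hm
        have h2 := congrArg (fun t : ℂˣ => (t : ℂ) ^ 2) h
        simp [pow_succ, pow_mul] at h2
        rw [mul_mul_mul_comm, Complex.I_mul_I, ← mul_pow, neg_mul_neg, one_mul, one_pow,
          one_mul] at h2
        norm_num at h2
      · intro _ m hm h
        obtain ⟨j, rfl⟩ := hm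
        have h2 := congrArg (fun t : ℂˣ => (t : ℂ)) h
        simp [pow_succ, pow_mul] at h2
        rw [mul_mul_mul_comm, Complex.I_mul_I, ← mul_pow, neg_mul_neg, one_mul, one_pow,
          one_mul] at h2
        norm_num at h2
      · obtain ⟨j, hj⟩ : 4 ∣ 2 ^ S.n := pow_dvd_pow 2 (show 2 ≤ S.n by omega)
        exact ⟨Units.ext (by simp [hj, pow_mul]), fun h => absurd h (by omega)⟩
    · have hn2 : S.n = 2 := by have := S.hn; omega
      refine ⟨-1, ?_, ?_, ?_, fun h => absurd h hn, ?_⟩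
      · exact Units.ext (by norm_num)
      · rw [hn2]; exact Units.ext (by norm_num)
      · intro m hm h
        rw [hm.neg_one_pow] at h
        have := congrArg (fun t : ℂˣ => (t : ℂ)) h
        norm_num at this
      · exact ⟨by rw [hn2]; exact Units.ext (by norm_num), fun _ => by rw [neg_mul_neg, one_mul]⟩
  set q0 : Q := ⟨g0, by rw [← SetLike.mem_coe, ← Sylow.coe_coe, hQz]; exact mem_zpowers g0⟩
  have hq0 : ∀ q : Q, q ∈ zpowers q0 := by
    intro q
    have h1 : (q : C) ∈ (Q : Subgroup C) := q.2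
    rw [hQz, mem_zpowers_iff] at h1
    obtain ⟨i, hi⟩ := h1
    exact mem_zpowers_iff.2 ⟨i, Subtype.ext (by rw [Subgroup.coe_zpow]; exact hi)⟩
  have hωord : orderOf ω ∣ orderOf q0 := by
    rw [← Subgroup.orderOf_coe q0]
    show orderOf ω ∣ orderOf g0
    rw [hg0]
    exact orderOf_dvd_of_pow_eq_one hω3
  set l : Q →* ℂˣ := monoidHomOfForallMemZpowers hq0 hωord
  have hl : l q0 = ω := monoidHomOfForallMemZpowers_apply_gen hq0 hωord
  set ρ : C →* ℂˣ := l.comp (MonoidHom.transferSylow Q hNC)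
  have hρpow : ∀ i : ℕ, ρ (g0 ^ i) = (ω ^ (Q : Subgroup C).index) ^ i := by
    intro i
    rw [map_pow]
    congr 1
    show l (MonoidHom.transferSylow Q hNC g0) = _
    rw [MonoidHom.transferSylow_eq_pow Q hNC g0 q0.2, ← hl, ← map_pow]
    rfl
  have hidx : Odd (Q : Subgroup C).index :=
    Nat.not_even_iff_odd.1 fun h => Q.not_dvd_index (even_iff_two_dvd.1 h)
  have hρ4 : ∀ c : C, ρ c ^ 4 = 1 := by
    intro c
    obtain ⟨i, hi⟩ := mem_zpowers_iff.1 (hq0 (MonoidHom.transferSylow Q hNC c))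
    show l (MonoidHom.transferSylow Q hNC c) ^ 4 = 1
    rw [← hi, map_zpow, hl, ← zpow_natCast (ω ^ i) 4, ← zpow_mul, mul_comm i, zpow_mul,
      zpow_natCast, hω4, one_zpow]
  have hρg : ρ g0 = ω ^ (Q : Subgroup C).index := by
    have := hρpow 1
    rwa [pow_one, pow_one] at this
  refine ⟨b, ⟨huniq, ha.1, S.orderOf_x, S.x_sq, S.conj_x hb hbg, ρ, hρ4, ?_, ?_, ?_⟩, ?_, ?_, ?_⟩
  · intro c hc
    have : c = g0 ^ 2 ^ (S.n - 1) := Subtype.ext (by
      rw [Subgroup.coe_pow, hc]; exact S.hgena.symm)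
    rw [this, hρpow, ← pow_mul, mul_comm, pow_mul, hωa, one_pow]
  · -- the product of `ρ` and its conjugate kills a Sylow subgroup
    have hmem : ∀ c : C, b * (c : G) * b⁻¹ ∈ C := by
      intro c
      show b * (c : G) * b⁻¹ ∈ centralizer ({S.x} : Set G)
      rw [mem_centralizer_singleton_iff]
      have h1 : Commute (c : G) S.x⁻¹ :=
        (show Commute (c : G) S.x from mem_centralizer_singleton_iff.1 c.2).inv_right
      have h2 := h1.map (MulAut.conj b).toMonoidHom
      simp only [MulEquiv.coe_toMonoidHom, MulAut.conj_apply] at h2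
      rwa [show b * S.x⁻¹ * b⁻¹ = S.x by rw [← conj_inv, S.conj_x hb hbg, inv_inv]] at h2
    let β : C →* C :=
      { toFun := fun c => ⟨b * (c : G) * b⁻¹, hmem c⟩
        map_one' := Subtype.ext (by simp)
        map_mul' := fun c d => Subtype.ext (by simp [mul_assoc]) }
    let τ : C →* ℂˣ := ρ * ρ.comp β
    have hτg : τ g0 = 1 := by
      show ρ g0 * ρ (β g0) = 1
      rw [show β g0 = g0⁻¹ from Subtype.ext (S.hout b hb hbg).1, map_inv, mul_inv_cancel]
    have hker : (Q : Subgroup C) ≤ τ.ker := by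
      rw [hQz, zpowers_le]; exact hτg
    have hτ : ∀ c : C, τ c = 1 := by
      intro c
      have h1 : τ c ^ τ.ker.index = 1 := by
        rw [← map_pow]; exact MonoidHom.mem_ker.1 (τ.ker.pow_index_mem c)
      have h2 : Odd τ.ker.index := hidx.of_dvd_nat (index_dvd_of_le hker)
      have h4 : τ c ^ 4 = 1 := by
        show (ρ c * ρ (β c)) ^ 4 = 1
        rw [mul_pow, hρ4, hρ4, one_mul]
      have h5 : orderOf (τ c) ∣ Nat.gcd 4 τ.ker.index :=
        Nat.dvd_gcd (orderOf_dvd_of_pow_eq_one h4) (orderOf_dvd_of_pow_eq_one h1)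
      rw [show Nat.gcd 4 τ.ker.index = 1 from by
        rw [show (4 : ℕ) = 2 ^ 2 by norm_num]
        exact Nat.Coprime.pow_left 2 (Nat.coprime_two_left.2 h2), Nat.dvd_one] at h5
      exact orderOf_eq_one_iff.1 h5
    intro c d hd
    rw [show d = β c from Subtype.ext hd]
    exact eq_inv_of_mul_eq_one_right (hτ c)
  · intro h
    have := DFunLike.congr_fun h g0
    rw [hρg, MonoidHom.one_apply] at this
    exact hω1 _ hidx this
  · intro hn h
    have := DFunLike.congr_fun h g0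
    rw [MonoidHom.mul_apply, hρg, MonoidHom.one_apply] at this
    exact hω2 hn _ hidx this
  · intro hn
    refine ⟨fun c => ?_, fun c hc => ?_⟩
    · obtain ⟨i, hi⟩ := mem_zpowers_iff.1 (hq0 (MonoidHom.transferSylow Q hNC c))
      show l (MonoidHom.transferSylow Q hNC c) * l (MonoidHom.transferSylow Q hNC c) = 1
      rw [← hi, map_zpow, hl, ← mul_zpow, hω22 hn, one_zpow]
    · rw [show c = g0 from Subtype.ext (hc.trans (S.x_eq_of_two hn)), hρg]
      exact hω1 _ hidx
  · have hodd : ∀ c : C, Odd (orderOf c) → c ∈ (MonoidHom.transferSylow Q hNC).ker := by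
      intro c hc
      rw [MonoidHom.mem_ker, ← orderOf_eq_one_iff]
      obtain ⟨k, hk⟩ := IsPGroup.iff_orderOf.1 Q.isPGroup' (MonoidHom.transferSylow Q hNC c)
      have h1 : orderOf (MonoidHom.transferSylow Q hNC c) ∣ orderOf c := orderOf_map_dvd _ c
      rw [hk] at h1 ⊢
      exact Nat.eq_one_of_dvd_coprimes (Nat.Coprime.pow_left k (Nat.coprime_two_left.2 hc)) dvd_rfl h1
    intro c d hc hd
    refine Odd.of_dvd_nat (Nat.not_even_iff_odd.1 fun h => ?_)
      (Subgroup.orderOf_dvd_natCard _ (mul_mem (hodd c hc) (hodd d hd)))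
    exact MonoidHom.not_dvd_card_ker_transferSylow Q hNC (even_iff_two_dvd.1 h)

end QSylow

end CfsgLib.ZStar
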