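import Cfsg.Agent.ZStar.CharTools
import Cfsg.Agent.Char.Linear
import Cfsg.Agent.Char.Induction
import Mathlib.Algebra.Group.Subgroup.Finite

/-!
# The generalized character `Ind (1 - ρ)` from the centralizer of an element of order four

Let `x` have order four, `x² = a` the only involution commuting with itself, `b` invert `x` and
`ρ` be a linear character of `C(x)` of order dividing four, trivial on `a`, inverted by `b`.
The class function induced from `1 - ρ` vanishes at elements of order not divisible by four.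
-/

set_option autoImplicit false
set_option linter.style.haveILetI false
set_option linter.unusedSectionVars false

namespace CfsgLib.ZStar

open Cfsg Finset CfsgLib.Block CfsgLib.Block.Chr CfsgLib.Char
open scoped ComplexConjugate

universe u

/-- The data for the rank one argument. -/
structure QData (G : Type u) [Group G] (a x b : G) : Type u where
  huniq : ∀ v : G, orderOf v = 2 → Commute a v → v = a
  ha : orderOf a = 2
  hx : orderOf x = 4
  hxa : x ^ 2 = a
  hb : b * x * b⁻¹ = x⁻¹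
  ρ : Subgroup.centralizer ({x} : Set G) →* ℂˣ
  hρ4 : ∀ c, ρ c ^ 4 = 1
  hρa : ∀ c : Subgroup.centralizer ({x} : Set G), (c : G) = a → ρ c = 1
  hρb : ∀ c d : Subgroup.centralizer ({x} : Set G), (d : G) = b * c * b⁻¹ → ρ d = (ρ c)⁻¹
  hρne : ρ ≠ 1

variable {G : Type u} [Group G] {a x b : G}

theorem sum_linear_eq_zero {H : Type*} [Group H] [Fintype H] {σ : H →* ℂˣ} (h : σ ≠ 1) :
    ∑ c : H, ((σ c : ℂˣ) : ℂ) = 0 :=
  sum_hom_units_eq_zero ((Units.coeHom ℂ).comp σ) fun he => h (MonoidHom.ext fun c =>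
    Units.ext (DFunLike.congr_fun he c))

namespace QData

variable (D : QData G a x b)

/-- The function `1 - ρ`. -/
noncomputable def phi (c : Subgroup.centralizer ({x} : Set G)) : ℂ := 1 - ((D.ρ c : ℂˣ) : ℂ)

/-- The induced function. -/
noncomputable def psi [Fintype G] : G → ℂ := indFun (Subgroup.centralizer ({x} : Set G)) D.phi

include D

theorem commute_of_mem {c : G} (hc : c ∈ Subgroup.centralizer ({x} : Set G)) : Commute x c :=
  (Subgroup.mem_centralizer_singleton_iff.1 hc).symm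

theorem inv_x : x⁻¹ * x⁻¹ = a := by
  rw [← mul_inv_rev, ← sq, D.hxa, Invol.inv_eq_self D.ha]

theorem inv_ne : x⁻¹ ≠ x := by
  intro h
  have : x ^ 2 = 1 := by rw [sq]; nth_rw 1 [← h]; exact inv_mul_cancel x
  have h4 := orderOf_dvd_of_pow_eq_one this
  rw [D.hx] at h4
  exact absurd h4 (by decide)

theorem conj_x_inv : b * x⁻¹ * b⁻¹ = x := by
  rw [← conj_inv, D.hb, inv_inv]

theorem b_conj_mem {c : G} (hc : c ∈ Subgroup.centralizer ({x} : Set G)) :
    b * c * b⁻¹ ∈ Subgroup.centralizer ({x} : Set G) := by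
  rw [Subgroup.mem_centralizer_singleton_iff]
  have h1 := ((D.commute_of_mem hc).inv_left).map (MulAut.conj b).toMonoidHom
  simp only [MulEquiv.coe_toMonoidHom, MulAut.conj_apply] at h1
  rw [D.conj_x_inv] at h1
  exact h1.symm

theorem b_not_mem : b ∉ Subgroup.centralizer ({x} : Set G) := fun h => D.inv_ne (by
  rw [← D.hb, ← (D.commute_of_mem h).eq, mul_inv_cancel_right])

/-- An element of order four commuting with `x` is `x` or its inverse. -/
theorem eq_or_eq_inv {y : G} (hy : orderOf y = 4) (hc : Commute x y) : y = x ∨ y = x⁻¹ := by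
  have hy2 : orderOf (y ^ 2) = 2 := by
    rw [orderOf_pow' y (by norm_num : (2 : ℕ) ≠ 0), hy]; rfl
  have ha2 : Commute a (y ^ 2) := D.hxa ▸ (hc.pow_pow 2 2)
  have hy2a : y ^ 2 = a := D.huniq _ hy2 ha2
  have hsq : (y * x⁻¹) ^ 2 = 1 := by
    rw [hc.symm.inv_right.mul_pow, hy2a, inv_pow, D.hxa, mul_inv_cancel]
  by_cases h1 : y * x⁻¹ = 1
  · exact Or.inl (mul_inv_eq_one.1 h1)
  · have h2 : orderOf (y * x⁻¹) = 2 := orderOf_eq_prime hsq h1
    have h3 : Commute a (y * x⁻¹) := by
      rw [← D.hxa]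
      exact (hc.pow_left 2).mul_right ((Commute.refl x).inv_right.pow_left 2)
    have h4 := D.huniq _ h2 h3
    right
    rw [mul_inv_eq_iff_eq_mul] at h4
    rw [h4, ← D.inv_x, mul_assoc, inv_mul_cancel, mul_one]

variable [Finite G]

theorem four_dvd_of_ne {c : Subgroup.centralizer ({x} : Set G)} (h : D.ρ c ≠ 1) :
    4 ∣ orderOf (c : G) := by
  by_contra hn
  have hca : Commute a (c : G) := D.hxa ▸ (D.commute_of_mem c.2).pow_left 2
  obtain ⟨m, hm, hpow⟩ : ∃ m : ℕ, Odd m ∧ D.ρ c ^ m = 1 := by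
    rcases Nat.even_or_odd (orderOf (c : G)) with ⟨m, hm⟩ | ho
    · refine ⟨m, ?_, ?_⟩
      · rw [← Nat.not_even_iff_odd]
        rintro ⟨j, hj⟩
        exact hn ⟨j, by omega⟩
      · rw [← map_pow]
        refine D.hρa _ (D.huniq _ ?_ ?_)
        · rw [Subgroup.coe_pow, orderOf_pow]
          have hm0 : 0 < m := by have := orderOf_pos (c : G); omega
          rw [hm, ← two_mul, Nat.gcd_eq_right (dvd_mul_left m 2), Nat.mul_div_cancel _ hm0]
        · rw [Subgroup.coe_pow]
          exact hca.pow_right m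
    · refine ⟨_, ho, ?_⟩
      rw [← map_pow, Subgroup.orderOf_coe, pow_orderOf_eq_one, map_one]
  apply h
  have h1 : orderOf (D.ρ c) ∣ Nat.gcd 4 m :=
    Nat.dvd_gcd (orderOf_dvd_of_pow_eq_one (D.hρ4 c)) (orderOf_dvd_of_pow_eq_one hpow)
  have h2 : Nat.gcd 4 m = 1 := by
    rw [show (4 : ℕ) = 2 ^ 2 by norm_num]
    exact Nat.Coprime.pow_left 2 (Nat.coprime_two_left.2 hm)
  rw [h2, Nat.dvd_one] at h1
  exact orderOf_eq_one_iff.1 h1

/-- Fusion of the support. -/
theorem mem_or_mem {c : Subgroup.centralizer ({x} : Set G)} (hc : D.ρ c ≠ 1) {g : G}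
    {d : Subgroup.centralizer ({x} : Set G)} (hd : (d : G) = g * c * g⁻¹) :
    g ∈ Subgroup.centralizer ({x} : Set G) ∨ b * g ∈ Subgroup.centralizer ({x} : Set G) := by
  obtain ⟨k, hk⟩ := D.four_dvd_of_ne hc
  have hk0 : k ≠ 0 := by rintro rfl; have := orderOf_pos (c : G); omega
  have hord : orderOf ((c : G) ^ k) = 4 := by
    rw [orderOf_pow' _ hk0, hk, Nat.gcd_eq_right (dvd_mul_left k 4),
      Nat.mul_div_cancel _ (Nat.pos_of_ne_zero hk0)]
  have hgd : g * (c : G) ^ k * g⁻¹ = (d : G) ^ k := by rw [hd, conj_pow]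
  have hord' : orderOf ((d : G) ^ k) = 4 := by rw [← hgd, Invol.orderOf_conj_eq, hord]
  have hx : g * x * g⁻¹ = x ∨ g * x * g⁻¹ = x⁻¹ := by
    rcases D.eq_or_eq_inv hord ((D.commute_of_mem c.2).pow_right k) with h | h <;>
      rcases D.eq_or_eq_inv hord' ((D.commute_of_mem d.2).pow_right k) with h' | h' <;>
      rw [h, h'] at hgd
    · exact Or.inl hgd
    · exact Or.inr hgd
    · right; rw [← inv_inv (g * x * g⁻¹), _root_.conj_inv, hgd]
    · left; rw [← inv_inv (g * x * g⁻¹), _root_.conj_inv, hgd, inv_inv]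
  rcases hx with h | h
  · left
    rw [Subgroup.mem_centralizer_singleton_iff]
    exact mul_inv_eq_iff_eq_mul.1 h
  · right
    rw [Subgroup.mem_centralizer_singleton_iff]
    refine mul_inv_eq_iff_eq_mul.1 ?_
    calc b * g * x * (b * g)⁻¹ = b * (g * x * g⁻¹) * b⁻¹ := by group
      _ = x := by rw [h, D.conj_x_inv]

theorem isGeneralized_phi : IsGeneralizedCharacter (Subgroup.centralizer ({x} : Set G)) D.phi :=
  IsGeneralized.sub isGeneralized_one
    (IsCharacter.isGeneralized (IsIrrCharacter.isCharacter (isIrrCharacter_ofHom D.ρ)))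

variable [Fintype G]

theorem isGeneralized_psi : IsGeneralizedCharacter G D.psi :=
  IsGeneralized.indFun D.isGeneralized_phi

theorem psi_eq_zero {g : G} (hg : ¬ 4 ∣ orderOf g) : D.psi g = 0 := by
  rw [psi, indFun_def, sum_eq_zero, mul_zero]
  intro y _
  by_cases hy : y⁻¹ * g * y ∈ Subgroup.centralizer ({x} : Set G)
  · rw [extendByZero_of_mem _ hy, phi]
    have : D.ρ ⟨_, hy⟩ = 1 := by
      by_contra h
      apply hg
      have := D.four_dvd_of_ne h
      rwa [show orderOf (y⁻¹ * g * y) = orderOf g from by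
        simpa using Invol.orderOf_conj_eq y⁻¹ g] at this
    rw [this, Units.val_one, sub_self]
  · exact extendByZero_of_not_mem _ hy

/-- The value on the support. -/
theorem psi_apply {c : Subgroup.centralizer ({x} : Set G)} (hc : D.ρ c ≠ 1) :
    D.psi c = 2 - ((D.ρ c : ℂˣ) : ℂ) - (((D.ρ c)⁻¹ : ℂˣ) : ℂ) := by
  classical
  have hterm : ∀ y : G, extendByZero (Subgroup.centralizer ({x} : Set G)) D.phi (y⁻¹ * c * y) =
      (if y⁻¹ ∈ (Subgroup.centralizer ({x} : Set G)) then 1 - ((D.ρ c : ℂˣ) : ℂ) else 0) +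
        (if b * y⁻¹ ∈ (Subgroup.centralizer ({x} : Set G)) then 1 - (((D.ρ c)⁻¹ : ℂˣ) : ℂ) else 0) := by
    intro y
    by_cases h1 : y⁻¹ ∈ (Subgroup.centralizer ({x} : Set G))
    · have hn : b * y⁻¹ ∉ (Subgroup.centralizer ({x} : Set G)) := fun h => D.b_not_mem (((Subgroup.centralizer ({x} : Set G)).mul_mem_cancel_right h1).1 h)
      have hm : y⁻¹ * c * y ∈ (Subgroup.centralizer ({x} : Set G)) := mul_mem (mul_mem h1 c.2) (inv_mem_iff.1 h1)
      rw [if_pos h1, if_neg hn, add_zero, extendByZero_of_mem _ hm, phi]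
      have : (⟨_, hm⟩ : (Subgroup.centralizer ({x} : Set G))) = ⟨y⁻¹, h1⟩ * c * ⟨y⁻¹, h1⟩⁻¹ := Subtype.ext (by simp)
      rw [this, map_mul, map_mul, map_inv, mul_comm (D.ρ _) (D.ρ c), mul_inv_cancel_right]
    · rw [if_neg h1, zero_add]
      by_cases h2 : b * y⁻¹ ∈ (Subgroup.centralizer ({x} : Set G))
      · have hd := D.b_conj_mem c.2
        have e : y⁻¹ * (c : G) * y =
            b⁻¹ * ((b * y⁻¹) * c * (b * y⁻¹)⁻¹) * b := by group
        set t : (Subgroup.centralizer ({x} : Set G)) := ⟨b * y⁻¹, h2⟩ * c * ⟨b * y⁻¹, h2⟩⁻¹ with ht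
        have hb2 : b⁻¹ * (t : G) * b ∈ (Subgroup.centralizer ({x} : Set G)) := by
          have h4 := D.b_conj_mem t.2
          rw [Subgroup.mem_centralizer_singleton_iff] at h4 ⊢
          have h5 : Commute (t : G) x := Subgroup.mem_centralizer_singleton_iff.1 t.2
          have h6 := h5.inv_right.map (MulAut.conj b⁻¹).toMonoidHom
          simp only [MulEquiv.coe_toMonoidHom, MulAut.conj_apply, inv_inv] at h6
          rwa [show b⁻¹ * x⁻¹ * b = x by rw [← D.hb]; group] at h6
        rw [e, show (b * y⁻¹) * (c : G) * (b * y⁻¹)⁻¹ = (t : G) from rfl,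
          extendByZero_of_mem _ hb2, if_pos h2, phi]
        have h7 := D.hρb ⟨_, hb2⟩ t (by
          show (t : G) = b * (b⁻¹ * (t : G) * b) * b⁻¹
          group)
        have h8 : D.ρ t = D.ρ c := by
          rw [ht, map_mul, map_mul, map_inv, mul_comm (D.ρ _) (D.ρ c), mul_inv_cancel_right]
        rw [h8] at h7
        rw [h7, inv_inv]
      · rw [if_neg h2]
        by_cases h3 : y⁻¹ * c * y ∈ (Subgroup.centralizer ({x} : Set G))
        · rcases D.mem_or_mem hc (g := y⁻¹) (d := ⟨_, h3⟩) (by simp) with h | h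
          · exact absurd h h1
          · exact absurd h h2
        · exact extendByZero_of_not_mem _ h3
  rw [psi, indFun_def, sum_congr rfl fun y _ => hterm y, sum_add_distrib, ← sum_filter,
    ← sum_filter, sum_const, sum_const]
  have hc1 : (univ.filter fun y : G => y⁻¹ ∈ (Subgroup.centralizer ({x} : Set G))).card = Nat.card (Subgroup.centralizer ({x} : Set G)) := by
    rw [Nat.card_eq_fintype_card, Fintype.card_subtype]
    exact card_nbij' (fun y => y⁻¹) (fun y => y⁻¹) (fun y hy => by simpa using hy)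
      (fun y hy => by simpa using hy) (fun y _ => inv_inv y) (fun y _ => inv_inv y)
  have hc2 : (univ.filter fun y : G => b * y⁻¹ ∈ (Subgroup.centralizer ({x} : Set G))).card = Nat.card (Subgroup.centralizer ({x} : Set G)) := by
    rw [Nat.card_eq_fintype_card, Fintype.card_subtype]
    exact card_nbij' (fun y => b * y⁻¹) (fun y => y⁻¹ * b) (fun y hy => by simpa using hy)
      (fun y hy => by simpa using hy) (fun y _ => by group) (fun y _ => by group)
  rw [hc1, hc2, nsmul_eq_mul, nsmul_eq_mul, ← mul_add, ← mul_assoc,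
    inv_mul_cancel₀ (Nat.cast_ne_zero.2 Nat.card_pos.ne'), one_mul]
  ring

theorem classInner_psi_one : classInner D.psi (fun _ => 1) = 1 := by
  classical
  haveI : Fintype (Subgroup.centralizer ({x} : Set G)) := Fintype.ofFinite _
  rw [psi, classInner_indFun D.phi (fun _ _ => rfl), classInner]
  simp only [map_one, mul_one, phi, sum_sub_distrib, sum_const, card_univ, nsmul_eq_mul]
  rw [sum_linear_eq_zero D.hρne, sub_zero, Nat.card_eq_fintype_card,
    inv_mul_cancel₀ (Nat.cast_ne_zero.2 Fintype.card_ne_zero)]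

theorem classInner_psi_self (h2 : D.ρ * D.ρ ≠ 1) : classInner D.psi D.psi = 3 := by
  classical
  haveI : Fintype (Subgroup.centralizer ({x} : Set G)) := Fintype.ofFinite _
  conv_lhs => arg 1; rw [psi]
  rw [classInner_indFun D.phi (IsGeneralized.isClassFunction D.isGeneralized_psi), classInner]
  have hterm : ∀ c : Subgroup.centralizer ({x} : Set G), D.phi c * conj (D.psi c) =
      3 - 3 * ((D.ρ c : ℂˣ) : ℂ) - ((D.ρ⁻¹ c : ℂˣ) : ℂ) + (((D.ρ * D.ρ) c : ℂˣ) : ℂ) := by
    intro c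
    rw [phi, MonoidHom.inv_apply, MonoidHom.mul_apply, Units.val_mul]
    by_cases hc : D.ρ c = 1
    · rw [hc]; norm_num
    · rw [D.psi_apply hc]
      have hnorm : ‖((D.ρ c : ℂˣ) : ℂ)‖ = 1 := Complex.norm_eq_one_of_pow_eq_one
        (by rw [← Units.val_pow_eq_pow_val, D.hρ4, Units.val_one]) (by norm_num : (4 : ℕ) ≠ 0)
      have hconj : conj ((D.ρ c : ℂˣ) : ℂ) = (((D.ρ c)⁻¹ : ℂˣ) : ℂ) := by
        rw [Units.val_inv_eq_inv_val, Complex.inv_eq_conj hnorm]
      have hconj' : conj (((D.ρ c)⁻¹ : ℂˣ) : ℂ) = ((D.ρ c : ℂˣ) : ℂ) := by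
        rw [← hconj, Complex.conj_conj]
      rw [map_sub, map_sub, hconj, hconj', map_ofNat]
      have hmul : ((D.ρ c : ℂˣ) : ℂ) * (((D.ρ c)⁻¹ : ℂˣ) : ℂ) = 1 := Units.mul_inv _
      linear_combination hmul
  rw [sum_congr rfl fun c _ => hterm c, sum_add_distrib, sum_sub_distrib, sum_sub_distrib,
    sum_const, ← mul_sum, sum_linear_eq_zero D.hρne,
    sum_linear_eq_zero (σ := D.ρ⁻¹) (fun h => D.hρne (MonoidHom.ext fun c => inv_eq_one.1 (DFunLike.congr_fun h c))), sum_linear_eq_zero h2, mul_zero,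
    sub_zero, sub_zero, add_zero, card_univ, nsmul_eq_mul, Nat.card_eq_fintype_card, ← mul_assoc,
    inv_mul_cancel₀ (Nat.cast_ne_zero.2 Fintype.card_ne_zero), one_mul]

/-- A linear character of order four gives a nontrivial character not moved by `a`. -/
theorem false_of_sq_ne_one (ha : IsIsolatedInvolution a)
    (hgen : Subgroup.normalClosure ({a} : Set G) = ⊤) (h2 : D.ρ * D.ρ ≠ 1) : False := by
  classical
  letI := irrFintype (G := G)
  obtain ⟨m, hm, hexp⟩ := exists_coeff D.isGeneralized_psi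
  have hm1 : m (oneIrr G) = 1 := by
    have := hm (oneIrr G)
    rw [oneIrr_coe, D.classInner_psi_one] at this
    exact_mod_cast this.symm
  have hsq : ∑ χ, m χ * m χ = 3 := by
    have := (classInner_coeff hexp hm).symm.trans (D.classInner_psi_self h2)
    exact_mod_cast this
  obtain ⟨hbd, hcard⟩ := short_vector hm1 hsq (by norm_num)
  set S := univ.filter fun χ : IrrCharacter G => m χ ≠ 0
  have h1S : oneIrr G ∈ S := mem_filter.2 ⟨mem_univ _, by rw [hm1]; exact one_ne_zero⟩
  have hS3 : (S.erase (oneIrr G)).card = 2 := by rw [card_erase_of_mem h1S]; omega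
  obtain ⟨χ₁, χ₂, h12, hS⟩ := card_eq_two.1 hS3
  have hsum : ∀ F : IrrCharacter G → ℂ, ∑ χ, (m χ : ℂ) * F χ =
      F (oneIrr G) + ((m χ₁ : ℂ) * F χ₁ + (m χ₂ : ℂ) * F χ₂) := by
    intro F
    rw [← sum_filter_of_ne (s := univ) (p := fun χ => m χ ≠ 0) (fun χ _ h h0 => h (by
        rw [h0, Int.cast_zero, zero_mul])), ← add_sum_erase S _ h1S, hS, sum_pair h12, hm1,
      Int.cast_one, one_mul]
  have hno : ∀ g : G, orderOf g = 1 ∨ orderOf g = 2 → D.psi g = 0 := fun g hg =>
    D.psi_eq_zero (by rcases hg with h | h <;> rw [h] <;> decide)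
  have e1 := (hexp 1).symm.trans (hno 1 (Or.inl orderOf_one))
  have e2 := (hexp a).symm.trans (hno a (Or.inr D.ha))
  have e3 := sum_sq_div_eq_zero ha (IsGeneralized.isClassFunction D.isGeneralized_psi)
    fun g hg => D.psi_eq_zero fun h => by
      have := hg.of_dvd_nat h
      exact absurd this (by decide)
  rw [hsum] at e1 e2
  simp only [hm, mul_div_assoc] at e3
  rw [hsum] at e3
  simp only [oneIrr_apply, one_pow, div_one] at e1 e2 e3
  have hne : χ₁ ≠ oneIrr G := fun h => by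
    have : χ₁ ∈ S.erase (oneIrr G) := hS ▸ mem_insert_self _ _
    exact (mem_erase.1 this).1 h
  have hm0 : m χ₁ ≠ 0 ∧ m χ₂ ≠ 0 := by
    constructor
    · have : χ₁ ∈ S.erase (oneIrr G) := hS ▸ mem_insert_self _ _
      exact (mem_filter.1 (mem_erase.1 this).2).2
    · have : χ₂ ∈ S.erase (oneIrr G) := hS ▸ mem_insert_of_mem (mem_singleton_self _)
      exact (mem_filter.1 (mem_erase.1 this).2).2
  apply hne
  apply eq_oneIrr_of_apply_eq hgen
  have n1 := irr_one_ne_zero χ₁
  have n2 := irr_one_ne_zero χ₂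
  have hz1 : (m χ₁ : ℂ) ≠ 0 := Int.cast_ne_zero.2 hm0.1
  set u1 := (χ₁ : G → ℂ) 1
  set v1 := (χ₁ : G → ℂ) a
  set u2 := (χ₂ : G → ℂ) 1
  set v2 := (χ₂ : G → ℂ) a
  field_simp at e3
  have h5 : ((m χ₁ : ℂ) * (v1 - u1)) ^ 2 = 0 := by
    linear_combination ((m χ₁ : ℂ) * u1 + ((m χ₁ : ℂ) * v1) ^ 2) * e1 +
      (m χ₁ : ℂ) * u1 * ((m χ₂ : ℂ) * v2 - 1 - (m χ₁ : ℂ) * v1) * e2 -
      (m χ₁ : ℂ) * (m χ₂ : ℂ) * e3
  exact sub_eq_zero.1 ((mul_eq_zero.1 (pow_eq_zero_iff two_ne_zero |>.1 h5)).resolve_left hz1)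

end QData

end CfsgLib.ZStar
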